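import Cfsg.Agent.Lib.Singer.Primitive
import Mathlib

/-!
The centraliser field of an irreducible element, and an element permuting the eigenspaces of a
commutative subalgebra.
-/

set_option autoImplicit false

namespace Cfsg.Agent.Lib.Elem70.Semilinear

variable {F V : Type*} [Field F] [Finite F] [AddCommGroup V] [Module F V] [Finite V]

/-- The vectors killed by an ideal of a subalgebra of `End V`. -/
def killed (E : Subalgebra F (Module.End F V)) (m : Set E) : Submodule F V where
  carrier := {v | ∀ e ∈ m, (e : Module.End F V) v = 0}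
  add_mem' := fun {u v} hu hv e he => by rw [map_add, hu e he, hv e he, add_zero]
  zero_mem' := fun e _ => map_zero _
  smul_mem' := fun c v hv e he => by rw [map_smul, hv e he, smul_zero]

theorem mem_killed {E : Subalgebra F (Module.End F V)} {m : Set E} {v : V} :
    v ∈ killed E m ↔ ∀ e ∈ m, (e : Module.End F V) v = 0 := Iff.rfl

/-- Nonzero killed spaces of distinct maximal ideals are independent, so there are at most `dim V`. -/
theorem card_le_finrank (E : Subalgebra F (Module.End F V))
    (hcomm : ∀ a b : E, a * b = b * a) (s : Finset (Ideal E))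
    (hs : ∀ m ∈ s, m.IsMaximal ∧ killed E (m : Set E) ≠ ⊥) : s.card ≤ Module.finrank F V := by
  classical
  choose w hw hw0 using fun m : s => Submodule.exists_mem_ne_zero_of_ne_bot (hs m m.2).2
  have hli : LinearIndependent F w := by
    rw [Fintype.linearIndependent_iff]
    intro g hg m₀
    by_contra hgne
    -- an element of all the other ideals which is invertible modulo `m₀`
    obtain ⟨e, he, he'⟩ : ∃ e : E, (∀ m : s, m ≠ m₀ → e ∈ (m : Ideal E)) ∧ e - 1 ∈ (m₀ : Ideal E) := by
      letI : CommRing E := { (inferInstance : Ring E) with mul_comm := hcomm }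
      haveI hmax : (m₀ : Ideal E).IsMaximal := (hs m₀ m₀.2).1
      have hx : ∀ m : s, m ≠ m₀ → ∃ x ∈ (m : Ideal E), x ∉ (m₀ : Ideal E) := fun m hm =>
        SetLike.not_le_iff_exists.mp fun h => hm (Subtype.ext
          ((hs m m.2).1.eq_of_le hmax.ne_top h))
      choose x hxm hx0 using hx
      let e₀ : E := ∏ m : s, if h : m ≠ m₀ then x m h else 1
      have h0 : e₀ ∉ (m₀ : Ideal E) := by
        intro h
        obtain ⟨m, -, hm⟩ := (hmax.isPrime.prod_mem_iff).mp h
        by_cases hne : m ≠ m₀
        · rw [dif_pos hne] at hm; exact hx0 m hne hm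
        · rw [dif_neg hne] at hm
          exact hmax.ne_top ((Ideal.eq_top_iff_one _).mpr hm)
      obtain ⟨y, i, hi, hyi⟩ := hmax.exists_inv h0
      refine ⟨y * e₀, fun m hm => Ideal.mul_mem_left _ _ ?_, ?_⟩
      · show (∏ m' : s, if h : m' ≠ m₀ then x m' h else 1) ∈ (m : Ideal E)
        rw [← Finset.mul_prod_erase _ _ (Finset.mem_univ m), dif_pos hm]
        exact Ideal.mul_mem_right _ _ (hxm m hm)
      · rw [show y * e₀ - 1 = -i by rw [← hyi]; ring]
        exact neg_mem hi
    have h1 : (e : Module.End F V) (∑ m, g m • w m) = g m₀ • w m₀ := by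
      rw [map_sum, Finset.sum_eq_single m₀]
      · have h2 := hw m₀ _ he'
        rw [map_smul]
        congr 1
        push_cast at h2
        rwa [LinearMap.sub_apply, Module.End.one_apply, sub_eq_zero] at h2
      · intro m _ hm
        rw [map_smul, hw m e (he m hm), smul_zero]
      · intro h; exact absurd (Finset.mem_univ _) h
    rw [hg, map_zero] at h1
    exact (smul_ne_zero hgne (hw0 m₀)) h1.symm
  have h := hli.fintype_card_le_finrank
  rwa [Fintype.card_coe] at h

theorem exists_killed_ne_bot [Nontrivial V] (E : Subalgebra F (Module.End F V))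
    (hcomm : ∀ a b : E, a * b = b * a) : ∃ m : Ideal E, m.IsMaximal ∧ killed E (m : Set E) ≠ ⊥ := by
  classical
  letI : CommRing E := { (inferInstance : Ring E) with mul_comm := hcomm }
  haveI : Finite (Module.End F V) := Module.finite_of_finite F
  haveI : Finite (Ideal E) := Finite.of_injective (fun I => (I : Set E)) SetLike.coe_injective
  -- a maximal annihilator of a nonzero vector
  let ann : V → Ideal E := fun v =>
    { carrier := {e | (e : Module.End F V) v = 0}
      add_mem' := fun {a b} ha hb => by
        show ((a + b : E) : Module.End F V) v = 0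
        push_cast
        rw [LinearMap.add_apply, ha, hb, add_zero]
      zero_mem' := rfl
      smul_mem' := fun c {a} ha => by
        show ((c * a : E) : Module.End F V) v = 0
        push_cast
        rw [Module.End.mul_apply, ha, map_zero] }
  obtain ⟨v₀, hv₀⟩ := exists_ne (0 : V)
  obtain ⟨I, ⟨v, hv, rfl⟩, hmax⟩ := (Set.toFinite {I : Ideal E | ∃ v, v ≠ 0 ∧ ann v = I}).exists_maximal
    ⟨ann v₀, v₀, hv₀, rfl⟩
  refine ⟨ann v, ⟨⟨?_, fun J hJ => ?_⟩⟩, ?_⟩
  · intro h
    exact hv (show ((1 : E) : Module.End F V) v = 0 from (h ▸ Submodule.mem_top : (1 : E) ∈ ann v))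
  · by_contra hJne
    obtain ⟨b, hbJ, hb⟩ := SetLike.exists_of_lt hJ
    have hbv : (b : Module.End F V) v ≠ 0 := hb
    have hle : ann v ≤ ann ((b : Module.End F V) v) := fun a ha => by
      show (a : Module.End F V) ((b : Module.End F V) v) = 0
      rw [← Module.End.mul_apply, show (a : Module.End F V) * b = ((b * a : E) : Module.End F V) by
        rw [← hcomm]; rfl]
      push_cast
      rw [Module.End.mul_apply, (ha : (a : Module.End F V) v = 0), map_zero]
    have heq := hmax ⟨_, hbv, rfl⟩ hle
    -- `b` is then injective on the orbit of `v`, hence invertible there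
    let S : Set V := Set.range fun a : E => (a : Module.End F V) v
    haveI : Finite E := inferInstance
    have hmap : ∀ w : S, (b : Module.End F V) w ∈ S := by
      rintro ⟨_, a, rfl⟩
      exact ⟨b * a, by simp⟩
    have hinj : Function.Injective fun w : S => (⟨(b : Module.End F V) w, hmap w⟩ : S) := by
      rintro ⟨_, a, rfl⟩ ⟨_, a', rfl⟩ h
      have h' : ((a - a' : E) : Module.End F V) ((b : Module.End F V) v) = 0 := by
        have := congrArg Subtype.val h
        simp only at this
        rw [← Module.End.mul_apply, ← Module.End.mul_apply] at this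
        rw [← Module.End.mul_apply, show (((a - a' : E) : Module.End F V)) * b = ((b * (a - a') : E) : Module.End F V) by
          rw [← hcomm]; rfl]
        push_cast
        rw [mul_sub, LinearMap.sub_apply, this, sub_self]
      have h2 : ((a - a' : E) : Module.End F V) v = 0 := heq h'
      push_cast at h2
      rw [LinearMap.sub_apply, sub_eq_zero] at h2
      exact Subtype.ext h2
    obtain ⟨⟨_, a, rfl⟩, ha⟩ := Finite.injective_iff_surjective.mp hinj ⟨v, 1, by simp⟩
    apply hJne
    rw [Ideal.eq_top_iff_one]
    have h1 : (1 : E) - b * a ∈ ann v := by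
      show ((1 - b * a : E) : Module.End F V) v = 0
      have := congrArg Subtype.val ha
      simp only at this
      push_cast
      rw [LinearMap.sub_apply, Module.End.mul_apply, this, Module.End.one_apply, sub_self]
    rw [show (1 : E) = (1 - b * a) + b * a by ring]
    exact J.add_mem (hJ.le h1) (J.mul_mem_right a hbJ)
  · rw [Submodule.ne_bot_iff]
    exact ⟨v, fun e he => he, hv⟩

/-- An element of prime order `> dim V`, irreducible on `V`, which normalises a commutative
subalgebra, centralises it. -/
theorem commute_of_normalizes {r : ℕ} (hr : r.Prime) (hrn : Module.finrank F V < r)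
    (u : (Module.End F V)ˣ) (hur : u ^ r = 1)
    (hirr : ∀ W : Submodule F V, (∀ w ∈ W, (u : Module.End F V) w ∈ W) → W = ⊥ ∨ W = ⊤)
    (E : Subalgebra F (Module.End F V)) (hcomm : ∀ a b : E, a * b = b * a)
    (hnorm : ∀ e ∈ E, (u : Module.End F V) * e * ((u⁻¹ : (Module.End F V)ˣ) : Module.End F V) ∈ E) :
    ∀ e ∈ E, (u : Module.End F V) * e = e * (u : Module.End F V) := by
  classical
  rcases subsingleton_or_nontrivial V with hV | hV
  · intro e _; exact LinearMap.ext fun v => Subsingleton.elim _ _
  haveI : Finite (Module.End F V) := Module.finite_of_finite F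
  haveI : Finite (Ideal E) := Finite.of_injective (fun I => (I : Set E)) SetLike.coe_injective
  haveI := Fintype.ofFinite (Ideal E)
  -- conjugation by u as an algebra endomorphism of E
  let c : E →ₐ[F] E :=
    { toFun := fun e => ⟨(u : Module.End F V) * e * ((u⁻¹ : (Module.End F V)ˣ) : Module.End F V), hnorm e e.2⟩
      map_one' := Subtype.ext (by simp)
      map_mul' := fun a b => Subtype.ext (by
        show (u : Module.End F V) * ((a : Module.End F V) * b) * _ = _ * _
        simp [mul_assoc])
      map_zero' := Subtype.ext (by simp)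
      map_add' := fun a b => Subtype.ext (by
        show (u : Module.End F V) * ((a : Module.End F V) + b) * _ = _ + _
        rw [mul_add, add_mul])
      commutes' := fun k => Subtype.ext (by
        show (u : Module.End F V) * algebraMap F (Module.End F V) k * _ = algebraMap F (Module.End F V) k
        rw [← Algebra.commutes k (u : Module.End F V), mul_assoc, Units.mul_inv, mul_one]) }
  have hc : ∀ (j : ℕ) (e : E), (((c : E → E)^[j] e : E) : Module.End F V) =
      ((u ^ j : (Module.End F V)ˣ) : Module.End F V) * e * (((u ^ j)⁻¹ : (Module.End F V)ˣ) : Module.End F V) := by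
    intro j
    induction j with
    | zero => intro e; simp
    | succ j ih =>
      intro e
      rw [Function.iterate_succ_apply']
      show (u : Module.End F V) * _ * _ = _
      rw [ih, pow_succ' u, mul_inv_rev, Units.val_mul, Units.val_mul]
      simp only [mul_assoc]
  have hcr : ∀ e : E, (c : E → E)^[r] e = e := fun e => Subtype.ext (by rw [hc, hur]; simp)
  have hcinj : Function.Injective c := fun a b h => by
    obtain ⟨r', hr'⟩ : ∃ r', r = r' + 1 := ⟨r - 1, by have := hr.pos; omega⟩
    rw [← hcr a, ← hcr b, hr', Function.iterate_succ_apply, Function.iterate_succ_apply, h]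
  have hcbij : Function.Bijective c := Finite.injective_iff_bijective.mp hcinj
  let C : E ≃ₐ[F] E := AlgEquiv.ofBijective c hcbij
  -- it permutes the maximal ideals with nonzero killed space
  let T : Finset (Ideal E) := Finset.univ.filter fun m => m.IsMaximal ∧ killed E (m : Set E) ≠ ⊥
  let f : Ideal E → Ideal E := fun m => Ideal.comap (C.symm : E →+* E) m
  have hmemf : ∀ m e, e ∈ f m ↔ C.symm e ∈ m := fun m e => Iff.rfl
  have hW : ∀ (m : Ideal E) (v : V), v ∈ killed E (m : Set E) →
      (u : Module.End F V) v ∈ killed E (f m : Set E) := by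
    intro m v hv e he
    have h1 := hv _ ((hmemf m e).mp he)
    have h2 : (C (C.symm e) : Module.End F V) = e := by rw [AlgEquiv.apply_symm_apply]
    rw [← h2]
    show ((u : Module.End F V) * (C.symm e : E) * ((u⁻¹ : (Module.End F V)ˣ) : Module.End F V)) ((u : Module.End F V) v) = 0
    rw [← Module.End.mul_apply, mul_assoc, Units.inv_mul, mul_one, Module.End.mul_apply, h1, map_zero]
  have hfT : ∀ m ∈ T, f m ∈ T := by
    intro m hm
    simp only [T, Finset.mem_filter, Finset.mem_univ, true_and] at hm ⊢
    refine ⟨?_, ?_⟩
    · haveI := hm.1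
      exact Ideal.comap_isMaximal_of_surjective _ C.symm.surjective
    · rw [Submodule.ne_bot_iff] at hm ⊢
      obtain ⟨v, hv, hv0⟩ := hm.2
      refine ⟨_, hW m v hv, fun h => hv0 ?_⟩
      have := congrArg ((u⁻¹ : (Module.End F V)ˣ) : Module.End F V) h
      rwa [← Module.End.mul_apply, Units.inv_mul, map_zero, Module.End.one_apply] at this
  have hfiter : ∀ (j : ℕ) m e, e ∈ f^[j] m ↔ ((C.symm : E → E)^[j] e) ∈ m := by
    intro j
    induction j with
    | zero => intro m e; rfl
    | succ j ih => intro m e; rw [Function.iterate_succ_apply, ih, hmemf, Function.iterate_succ_apply']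
  have hCr : ∀ e, (C.symm : E → E)^[r] e = e := fun e => by
    have h1 : Function.LeftInverse ((C.symm : E → E)^[r]) ((C : E → E)^[r]) :=
      Function.LeftInverse.iterate C.symm_apply_apply r
    have h2 : (C : E → E)^[r] e = e := hcr e
    conv_lhs => rw [← h2]
    exact h1 e
  obtain ⟨m, hm, hmk⟩ := exists_killed_ne_bot E hcomm
  have hmT : m ∈ T := by simp [T, hm, hmk]
  have hper : Function.IsPeriodicPt f r m := Ideal.ext fun e => by rw [hfiter, hCr]
  haveI : Fact r.Prime := ⟨hr⟩
  have hfix : f m = m := by
    by_contra hne
    have hmin : Function.minimalPeriod f m = r := by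
      rcases (Nat.dvd_prime hr).mp hper.minimalPeriod_dvd with h | h
      · exact absurd (Function.minimalPeriod_eq_one_iff_isFixedPt.mp h) hne
      · exact h
    have hinjOn : Set.InjOn (fun j => f^[j] m) (Finset.range r : Set ℕ) := fun a ha b hb hab =>
      Function.iterate_injOn_Iio_minimalPeriod (f := f) (x := m) (by simpa [hmin] using ha) (by simpa [hmin] using hb) hab
    have hallT : ∀ j, f^[j] m ∈ T := by
      intro j
      induction j with
      | zero => exact hmT
      | succ j ih => rw [Function.iterate_succ_apply']; exact hfT _ ih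
    have hsub : (Finset.range r).image (fun j => f^[j] m) ⊆ T := by
      intro x hx
      obtain ⟨j, -, rfl⟩ := Finset.mem_image.mp hx
      exact hallT j
    have h1 := Finset.card_le_card hsub
    rw [Finset.card_image_of_injOn hinjOn, Finset.card_range] at h1
    have h2 := card_le_finrank E hcomm T fun m' hm' => (Finset.mem_filter.mp hm').2
    omega
  have htop : killed E (m : Set E) = ⊤ := (hirr _ fun w hw => by
    have := hW m w hw
    rwa [hfix] at this).resolve_left hmk
  -- so E is a field of degree at most dim V
  have hm0 : ∀ e ∈ m, e = 0 := fun e he => Subtype.ext (LinearMap.ext fun v => by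
    have : v ∈ killed E (m : Set E) := htop ▸ Submodule.mem_top
    simpa using this e he)
  letI : CommRing E := { (inferInstance : Ring E) with mul_comm := hcomm }
  have hmbot : m = ⊥ := (Submodule.eq_bot_iff _).mpr hm0
  haveI : Nontrivial E := ⟨⟨0, 1, fun h => by
    obtain ⟨v₁, hv₁⟩ := exists_ne (0 : V)
    exact hv₁ (LinearMap.congr_fun (congrArg Subtype.val h) v₁).symm⟩⟩
  have hfield : IsField E := by
    refine ⟨⟨0, 1, zero_ne_one⟩, mul_comm, fun {a} ha => ?_⟩
    obtain ⟨y, i, hi, hyi⟩ := hm.exists_inv (fun h => ha (hm0 a h))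
    exact ⟨y, by rw [hm0 i hi, add_zero] at hyi; rw [mul_comm]; exact hyi⟩
  letI : Field E := hfield.toField
  obtain ⟨v₁, hv₁⟩ := exists_ne (0 : V)
  let ev : E →ₗ[F] V :=
    { toFun := fun e => (e : Module.End F V) v₁
      map_add' := fun a b => rfl
      map_smul' := fun k a => rfl }
  have hev : Function.Injective ev := by
    refine (injective_iff_map_eq_zero ev).mpr fun a ha => ?_
    by_contra hne
    apply hv₁
    have h1 : ((a⁻¹ * a : E) : Module.End F V) v₁ = 0 := by
      push_cast
      rw [Module.End.mul_apply, show (a : Module.End F V) v₁ = 0 from ha, map_zero]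
    rwa [inv_mul_cancel₀ hne] at h1
  haveI : FiniteDimensional F E := Module.Finite.of_finite
  haveI : Finite E := inferInstance
  have hdim : Module.finrank F E < r := lt_of_le_of_lt (LinearMap.finrank_le_finrank_of_injective hev) hrn
  have hC : C ^ r = 1 := AlgEquiv.ext fun e => by
    have hp : ∀ j : ℕ, (C ^ j : E ≃ₐ[F] E) e = (C : E → E)^[j] e := by
      intro j
      induction j with
      | zero => rfl
      | succ j ih => rw [pow_succ', AlgEquiv.mul_apply, ih, Function.iterate_succ_apply']
    rw [hp]; exact hcr e
  have hC1 : C = 1 := by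
    rcases (Nat.dvd_prime hr).mp (orderOf_dvd_of_pow_eq_one hC) with h | h
    · exact orderOf_eq_one_iff.mp h
    · have h1 : orderOf C ≤ Nat.card (E ≃ₐ[F] E) := Nat.le_of_dvd Nat.card_pos (orderOf_dvd_natCard C)
      rw [IsGalois.card_aut_eq_finrank] at h1
      omega
  intro e he
  have h1 := congrArg Subtype.val (AlgEquiv.congr_fun hC1 ⟨e, he⟩)
  have h2 : (u : Module.End F V) * e * ((u⁻¹ : (Module.End F V)ˣ) : Module.End F V) = e := h1
  calc (u : Module.End F V) * e = (u : Module.End F V) * e * ((u⁻¹ : (Module.End F V)ˣ) : Module.End F V) * u := by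
        rw [mul_assoc ((u : Module.End F V) * e), Units.inv_mul, mul_one]
    _ = e * u := by rw [h2]

end Cfsg.Agent.Lib.Elem70.Semilinear
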