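import Cfsg.Agent.Lib.Elem70.Semilinear.Orders
import Cfsg.Agent.Lib.NumberTheory.Zsigmondy

/-!
Solvable linear groups over `ZMod p` transitive on the subspaces of each dimension: the dimension
is at most `3`, or it is `5` and `p = 2`.
-/

set_option autoImplicit false

namespace Cfsg.Agent.Lib.Elem70.Semilinear

open Module

variable {p : ℕ} [hp : Fact p.Prime] {V : Type*} [AddCommGroup V] [Module (ZMod p) V] [Finite V]
  {H : Type*} [Group H] [Finite H] (ρ : H →* (Module.End (ZMod p) V)ˣ)

/-- Subspaces of dimension `k`, counted through ordered bases. -/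
theorem card_subspaces {k : ℕ} (hk : k ≤ finrank (ZMod p) V) :
    Nat.card {W : Submodule (ZMod p) V // finrank (ZMod p) W = k} *
        ∏ i : Fin k, (p ^ k - p ^ (i : ℕ)) =
      ∏ i : Fin k, (p ^ finrank (ZMod p) V - p ^ (i : ℕ)) := by
  classical
  haveI : FiniteDimensional (ZMod p) V := Module.Finite.of_finite
  haveI : Finite (Submodule (ZMod p) V) := Finite.of_injective _ SetLike.coe_injective
  haveI := Fintype.ofFinite {W : Submodule (ZMod p) V // finrank (ZMod p) W = k}
  let e : {s : Fin k → V // LinearIndependent (ZMod p) s} ≃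
      Σ W : {W : Submodule (ZMod p) V // finrank (ZMod p) W = k},
        {s : Fin k → (W : Submodule (ZMod p) V) // LinearIndependent (ZMod p) s} :=
    { toFun := fun s => ⟨⟨Submodule.span (ZMod p) (Set.range s.1),
          by rw [finrank_span_eq_card s.2, Fintype.card_fin]⟩,
        ⟨fun i => ⟨s.1 i, Submodule.subset_span ⟨i, rfl⟩⟩,
          LinearIndependent.of_comp (Submodule.span (ZMod p) (Set.range s.1)).subtype s.2⟩⟩
      invFun := fun t => ⟨fun i => (t.2.1 i : V),
        t.2.2.map' _ (Submodule.ker_subtype _)⟩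
      left_inv := fun s => rfl
      right_inv := by
        have hspan : ∀ t : Σ W : {W : Submodule (ZMod p) V // finrank (ZMod p) W = k},
            {s : Fin k → (W : Submodule (ZMod p) V) // LinearIndependent (ZMod p) s},
            Submodule.span (ZMod p) (Set.range fun i => (t.2.1 i : V)) = t.1.1 := by
          rintro ⟨⟨W, hW⟩, ⟨s, hs⟩⟩
          refine Submodule.eq_of_le_of_finrank_eq (Submodule.span_le.mpr (by
            rintro _ ⟨i, rfl⟩; exact (s i).2)) ?_
          rw [finrank_span_eq_card (R := ZMod p) (b := fun i => (s i : V))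
            (hs.map' _ (Submodule.ker_subtype _)), Fintype.card_fin, hW]
        have key : ∀ t t' : Σ W : {W : Submodule (ZMod p) V // finrank (ZMod p) W = k},
            {s : Fin k → (W : Submodule (ZMod p) V) // LinearIndependent (ZMod p) s},
            (∀ i, (t.2.1 i : V) = t'.2.1 i) → t = t' := by
          intro t t' h
          have h1 := hspan t
          rw [show (fun i => (t.2.1 i : V)) = fun i => (t'.2.1 i : V) from funext h, hspan t'] at h1
          obtain ⟨W, s⟩ := t
          obtain ⟨W', s'⟩ := t'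
          obtain rfl : W' = W := Subtype.ext h1
          exact congrArg _ (Subtype.ext (funext fun i => Subtype.ext (h i)))
        exact fun t => key _ _ fun i => rfl }
  have h1 : ∀ W : {W : Submodule (ZMod p) V // finrank (ZMod p) W = k},
      Nat.card {s : Fin k → (W : Submodule (ZMod p) V) // LinearIndependent (ZMod p) s} =
        ∏ i : Fin k, (p ^ k - p ^ (i : ℕ)) := fun W => by
    rw [card_linearIndependent W.2.ge, W.2, ZMod.card]
  have h2 := Nat.card_congr e
  rw [card_linearIndependent hk, Nat.card_sigma, Finset.sum_congr rfl (fun W _ => h1 W),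
    Finset.sum_const, Finset.card_univ, ← Nat.card_eq_fintype_card (α := {W : Submodule (ZMod p) V // finrank (ZMod p) W = k}),
    ZMod.card, smul_eq_mul] at h2
  exact h2.symm

/-- `H` is transitive on the subspaces of dimension `k`. -/
def TransitiveOn (k : ℕ) : Prop :=
  ∀ W W' : Submodule (ZMod p) V, finrank (ZMod p) W = k → finrank (ZMod p) W' = k →
    ∃ h : H, W.map (ρ h : Module.End (ZMod p) V) = W'

/-- The number of `k`-subspaces divides `|H|`, and is at most half of it if some nontrivial element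
fixes all of them. -/
theorem card_subspaces_dvd {k : ℕ} (htr : TransitiveOn ρ k) (hk : k ≤ finrank (ZMod p) V) :
    Nat.card {W : Submodule (ZMod p) V // finrank (ZMod p) W = k} ∣ Nat.card H ∧
      ∀ z : H, z ≠ 1 → (∀ W : Submodule (ZMod p) V, finrank (ZMod p) W = k →
          W.map (ρ z : Module.End (ZMod p) V) = W) →
        2 * Nat.card {W : Submodule (ZMod p) V // finrank (ZMod p) W = k} ≤ Nat.card H := by
  have hfin : ∀ (h : H) (W : Submodule (ZMod p) V), finrank (ZMod p) W = k →
      finrank (ZMod p) (W.map (ρ h : Module.End (ZMod p) V)) = k := fun h W hW => by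
    rw [← hW]
    exact (Submodule.equivMapOfInjective _
      ((Module.End.isUnit_iff _).mp (ρ h).isUnit).1 W).finrank_eq.symm
  letI : MulAction H {W : Submodule (ZMod p) V // finrank (ZMod p) W = k} :=
    { smul := fun h W => ⟨W.1.map (ρ h : Module.End (ZMod p) V), hfin h W.1 W.2⟩
      one_smul := fun W => Subtype.ext (by
        show W.1.map (ρ 1 : Module.End (ZMod p) V) = W.1
        rw [map_one, Units.val_one, Module.End.one_eq_id, Submodule.map_id])
      mul_smul := fun a b W => Subtype.ext (by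
        show W.1.map (ρ (a * b) : Module.End (ZMod p) V) = (W.1.map _).map _
        rw [map_mul, Units.val_mul, Module.End.mul_eq_comp, Submodule.map_comp]) }
  obtain ⟨W, hW⟩ : ∃ W : Submodule (ZMod p) V, finrank (ZMod p) W = k := by
    have h1 : (Nat.card {W : Submodule (ZMod p) V // finrank (ZMod p) W = k}) ≠ 0 := by
      intro h0
      have h1 := card_subspaces (p := p) (V := V) hk
      rw [h0, zero_mul] at h1
      refine Finset.prod_ne_zero_iff.mpr (fun i _ => ?_) h1.symm
      exact Nat.sub_ne_zero_of_lt (Nat.pow_lt_pow_right hp.out.one_lt (i.2.trans_le hk))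
    obtain ⟨⟨W⟩, -⟩ := Nat.card_ne_zero.mp h1
    exact ⟨W.1, W.2⟩
  have horb : MulAction.orbit H (⟨W, hW⟩ : {W : Submodule (ZMod p) V // finrank (ZMod p) W = k}) = Set.univ := by
    ext W'
    refine ⟨fun _ => Set.mem_univ _, fun _ => ?_⟩
    obtain ⟨h, hh⟩ := htr W W'.1 hW W'.2
    exact ⟨h, Subtype.ext hh⟩
  have hcard := Subgroup.index_mul_card (MulAction.stabilizer H
    (⟨W, hW⟩ : {W : Submodule (ZMod p) V // finrank (ZMod p) W = k}))
  rw [MulAction.index_stabilizer, horb, Set.ncard_univ] at hcard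
  refine ⟨Dvd.intro _ hcard, fun z hz hfix => ?_⟩
  rw [← hcard, mul_comm 2]
  refine Nat.mul_le_mul le_rfl ?_
  refine Finite.one_lt_card_iff_nontrivial.mpr ⟨⟨z, Subtype.ext (hfix W hW)⟩, 1, fun h => hz ?_⟩
  exact congrArg Subtype.val h

private theorem prime_dvd_pow_sub_one_iff {r : ℕ} (hr : r.Prime) {n : ℕ} (hn : 0 < n)
    (ho : orderOf (p : ZMod r) = n) (m : ℕ) : r ∣ p ^ m - 1 ↔ n ∣ m := by
  rw [← ho, orderOf_dvd_iff_pow_eq_one, ← (ZMod.natCast_eq_zero_iff _ r)]
  have h1 : 1 ≤ p ^ m := Nat.one_le_pow _ _ hp.out.pos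
  rw [Nat.cast_sub h1, Nat.cast_pow, Nat.cast_one, sub_eq_zero]

omit hp in
private theorem lt_of_orderOf {r n : ℕ} (hr : r.Prime) (ho : orderOf (p : ZMod r) = n) (hn : 0 < n) :
    n < r ∧ n ∣ r - 1 := by
  haveI := Fact.mk hr
  have hne : (p : ZMod r) ≠ 0 := fun h => by
    have h1 := pow_orderOf_eq_one (p : ZMod r)
    rw [ho, h, zero_pow hn.ne'] at h1
    exact zero_ne_one h1
  have h1 := orderOf_dvd_of_pow_eq_one (ZMod.pow_card_sub_one_eq_one hne)
  rw [ho] at h1
  exact ⟨by have := Nat.le_of_dvd (Nat.sub_pos_of_lt hr.one_lt) h1; have := hr.one_lt; omega, h1⟩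

private theorem numerics {n : ℕ} (hn : 5 ≤ n)
    (h : p ^ n - p ≤ n * ((p ^ 2 - 1) * (p ^ 2 - p))) : n = 5 ∧ (p = 2 ∨ p = 3) := by
  have h2 := hp.out.two_le
  have hp2 : p ≤ p ^ 2 := Nat.le_self_pow two_ne_zero p
  have hp1 : 1 ≤ p ^ 2 := Nat.one_le_pow _ _ hp.out.pos
  rcases eq_or_lt_of_le hn with rfl | hn6
  · refine ⟨rfl, ?_⟩
    by_contra hc
    push Not at hc
    have h5 : 5 ≤ p := by
      by_contra h5
      interval_cases p <;> first | omega | (have := hp.out; norm_num at this)
    have hp5 : p ≤ p ^ 5 := Nat.le_self_pow (by norm_num) p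
    zify [hp2, hp1, hp5] at h
    have e : (5 : ℤ) ≤ (p : ℤ) := by exact_mod_cast h5
    nlinarith [pow_le_pow_left₀ (by norm_num) e 4]
  · exfalso
    obtain ⟨m, rfl⟩ : ∃ m, n = m + 6 := ⟨n - 6, by omega⟩
    have h3 : (p ^ 2 - 1) * (p ^ 2 - p) ≤ (p - 1) * p ^ 3 := by
      zify [hp2, hp1, hp.out.one_lt.le]
      nlinarith
    have hm : ∀ m : ℕ, ((m + 6) * (p - 1) + 1) * p ^ 3 ≤ p ^ (m + 6) := by
      intro m
      induction m with
      | zero =>
        rw [show p ^ (0 + 6) = p ^ 3 * p ^ 3 by ring]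
        refine Nat.mul_le_mul_right _ ?_
        zify [hp.out.one_lt.le]
        nlinarith
      | succ m ih =>
        calc ((m + 1 + 6) * (p - 1) + 1) * p ^ 3 ≤ 2 * (((m + 6) * (p - 1) + 1) * p ^ 3) := by
              rw [← mul_assoc]; refine Nat.mul_le_mul_right _ ?_
              rw [Nat.mul_add, ← mul_assoc]
              exact Nat.add_le_add (Nat.mul_le_mul_right _ (by omega)) (by norm_num)
          _ ≤ p * p ^ (m + 6) := Nat.mul_le_mul h2 ih
          _ = p ^ (m + 1 + 6) := by ring
    have h7 := hm m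
    have h8 : (m + 6) * ((p ^ 2 - 1) * (p ^ 2 - p)) ≤ (m + 6) * ((p - 1) * p ^ 3) :=
      Nat.mul_le_mul_left _ h3
    have h9 : p < p ^ 3 := by
      calc p = p ^ 1 := (pow_one p).symm
        _ < p ^ 3 := Nat.pow_lt_pow_right hp.out.one_lt (by norm_num)
    rw [add_mul, one_mul, mul_assoc] at h7
    omega

/-- The dimension of a solvable group transitive on lines and planes, and its shape. -/
theorem dimension_cases [Group.IsSolvable H] (hinj : Function.Injective ρ)
    (hn : 3 ≤ finrank (ZMod p) V) (htr : ∀ k ≤ 2, TransitiveOn ρ k) :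
    (finrank (ZMod p) V = 3 ∨ (finrank (ZMod p) V = 5 ∧ p = 2 ∧ 155 ∣ Nat.card H)) ∧
      Nat.card H ∣ finrank (ZMod p) V * (p ^ finrank (ZMod p) V - 1) ∧
      (finrank (ZMod p) V = 3 → p = 2 → 7 ∣ Nat.card H) ∧
      ∃ (r : ℕ) (u : (Module.End (ZMod p) V)ˣ), IsPrimitive r u ∧
        finrank (ZMod p) (cent u) = finrank (ZMod p) V ∧
        ∀ h : H, ((ρ h * u * (ρ h)⁻¹ : (Module.End (ZMod p) V)ˣ) : Module.End (ZMod p) V) ∈ cent u := by
  classical
  set n := finrank (ZMod p) V with hndef
  have h2 := hp.out.two_le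
  set L := Nat.card {W : Submodule (ZMod p) V // finrank (ZMod p) W = 1}
  set P₂ := Nat.card {W : Submodule (ZMod p) V // finrank (ZMod p) W = 2}
  have hL : L * (p - 1) = p ^ n - 1 := by
    simpa using card_subspaces (p := p) (V := V) (k := 1) (by omega)
  have hP : P₂ * ((p ^ 2 - 1) * (p ^ 2 - p)) = (p ^ n - 1) * (p ^ n - p) := by
    simpa [Fin.prod_univ_two] using card_subspaces (p := p) (V := V) (k := 2) (by omega)
  have hLd : L ∣ Nat.card H := (card_subspaces_dvd ρ (htr 1 one_le_two) (by omega)).1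
  have hPd : P₂ ∣ Nat.card H := (card_subspaces_dvd ρ (htr 2 le_rfl) (by omega)).1
  have hPhalf : ∀ z : H, z ≠ 1 → (∀ W : Submodule (ZMod p) V, finrank (ZMod p) W = 2 →
      W.map (ρ z : Module.End (ZMod p) V) = W) → 2 * P₂ ≤ Nat.card H :=
    (card_subspaces_dvd ρ (htr 2 le_rfl) (by omega)).2
  -- the prime for n - 1
  have hplanes : ∀ t : ℕ, t.Prime → 2 < n - 1 → orderOf (p : ZMod t) = n - 1 →
      t ∣ Nat.card H ∧ ¬ t ∣ p ^ n - 1 := by
    intro t ht hn1 ho
    have hd := prime_dvd_pow_sub_one_iff ht (by omega : 0 < n - 1) ho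
    refine ⟨dvd_trans ?_ hPd, fun h => ?_⟩
    · have e : ∀ m, 1 ≤ m → p ^ m - p = p * (p ^ (m - 1) - 1) := fun m hm => by
        rw [Nat.mul_sub, mul_one, ← pow_succ', Nat.sub_add_cancel hm]
      have h1 : t ∣ P₂ * ((p ^ 2 - 1) * (p ^ 2 - p)) := by
        rw [hP, e n (by omega)]
        exact Dvd.dvd.mul_left (Dvd.dvd.mul_left ((hd _).mpr dvd_rfl) _) _
      refine (ht.dvd_mul.mp h1).resolve_right fun h => ?_
      have htp : ¬ t ∣ p := fun htp => by
        have := (hd (n - 1)).mpr dvd_rfl
        have h3 : t ∣ p ^ (n - 1) := htp.trans (dvd_pow_self p (by omega))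
        have h4 := Nat.dvd_sub h3 this
        rw [Nat.sub_sub_self (Nat.one_le_pow _ _ hp.out.pos)] at h4
        exact ht.not_dvd_one h4
      rw [e 2 one_le_two] at h
      rcases ht.dvd_mul.mp h with h | h
      · exact absurd (Nat.le_of_dvd (by norm_num) ((hd _).mp h)) (by omega)
      · rcases ht.dvd_mul.mp h with h | h
        · exact htp h
        · exact absurd (Nat.le_of_dvd (by norm_num) ((hd _).mp h)) (by omega)
    · have h3 := (hd _).mp h
      have h4 : n - 1 ∣ 1 := by
        have := Nat.dvd_sub h3 (dvd_refl (n - 1))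
        rwa [show n - (n - 1) = 1 by omega] at this
      have := Nat.le_of_dvd Nat.one_pos h4
      omega
  -- a primitive element for n
  have h26 : ¬ (p = 2 ∧ n = 6) := by
    rintro ⟨rfl, h6⟩
    have h7 : (7 : ℕ).Prime := by norm_num
    have h31 : (31 : ℕ).Prime := by norm_num
    rw [h6] at hL hP
    refine not_seven_thirtyone ρ hinj h6 (dvd_trans ?_ hLd) (dvd_trans ?_ hPd)
    · norm_num at hL; rw [hL]; norm_num
    · norm_num at hP
      refine (h31.dvd_mul.mp (show 31 ∣ P₂ * 6 by rw [hP]; norm_num)).resolve_right (by norm_num)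
  obtain ⟨r, hr, hro⟩ := Cfsg.Agent.Lib.NumberTheory.exists_primitive_prime h2 (by omega : 2 ≤ n) h26
    (fun h => by omega)
  have hrd := prime_dvd_pow_sub_one_iff hr (by omega : 0 < n) hro
  have hrH : r ∣ Nat.card H := by
    refine dvd_trans ((hr.dvd_mul.mp (?_ : r ∣ L * (p - 1))).resolve_right fun h => ?_) hLd
    · rw [hL]; exact (hrd n).mpr dvd_rfl
    · have := Nat.le_of_dvd Nat.one_pos ((hrd 1).mp (by rwa [pow_one]))
      omega
  haveI := Fact.mk hr
  obtain ⟨x, hx⟩ := exists_prime_orderOf_dvd_card' r hrH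
  have hu : IsPrimitive r (ρ x) := ⟨hr, hro, by omega, by rw [← map_pow, ← hx, pow_orderOf_eq_one, map_one],
    fun h => hr.one_lt.ne' (by rw [← hx, hinj (h.trans (map_one ρ).symm), orderOf_one])⟩
  -- n is prime
  have hnp : n.Prime ∧ Odd n := by
    by_cases hn3 : n = 3
    · exact ⟨hn3 ▸ Nat.prime_three, by rw [hn3]; decide⟩
    by_cases hn7 : p = 2 ∧ n = 7
    · exact ⟨hn7.2 ▸ by norm_num, by rw [hn7.2]; decide⟩
    obtain ⟨t, ht, hto⟩ := Cfsg.Agent.Lib.NumberTheory.exists_primitive_prime h2 (by omega : 2 ≤ n - 1)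
      (fun h => hn7 ⟨h.1, by omega⟩) (fun h => by omega)
    haveI := Fact.mk ht
    obtain ⟨htH, htn⟩ := hplanes t ht (by omega) hto
    have hT := card_sylow_dvd_finrank ρ hinj hu rfl htn (default : Sylow t H)
    have ht1 : t ∣ Nat.card (default : Sylow t H) := by
      obtain ⟨j, hj⟩ := IsPGroup.iff_card.mp (default : Sylow t H).2
      have := Sylow.dvd_card_of_dvd_card (default : Sylow t H) htH
      exact this
    have htn' := ht1.trans hT
    obtain ⟨htlt, -⟩ := lt_of_orderOf ht hto (by omega)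
    have := Nat.le_of_dvd (by omega) htn'
    have htt : t = n := by omega
    exact ⟨htt ▸ ht, (htt ▸ ht).odd_of_ne_two (by omega)⟩
  have hnorm := conj_mem_cent_of_solvable ρ hinj hnp.1 hnp.2 hu rfl
  have hcard : Nat.card H ∣ n * (p ^ n - 1) := by
    have := card_dvd_of_normalizes ρ hinj hu ⊤ (fun h _ => hnorm h)
    rwa [Subgroup.card_top] at this
  have hfr : finrank (ZMod p) (cent (ρ x)) = n :=
    ((Nat.dvd_prime hnp.1).mp hu.finrank_cent.1).resolve_left (hu.finrank_cent.2 hnp.1.one_lt)
  refine ⟨?_, hcard, ?_, r, ρ x, hu, hfr, hnorm⟩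
  · by_cases hn3 : n = 3
    · exact Or.inl hn3
    have hn5 : 5 ≤ n := by
      rcases hnp.2 with ⟨m, hm⟩; omega
    have hpn : 2 ≤ p ^ n := h2.trans (Nat.le_self_pow (by omega) p)
    have hineq : p ^ n - p ≤ n * ((p ^ 2 - 1) * (p ^ 2 - p)) := by
      have h1 : P₂ ≤ n * (p ^ n - 1) := Nat.le_of_dvd (Nat.mul_pos (by omega) (by omega)) (hPd.trans hcard)
      have h3 := Nat.mul_le_mul_right ((p ^ 2 - 1) * (p ^ 2 - p)) h1
      rw [hP, mul_comm n, mul_assoc] at h3
      exact Nat.le_of_mul_le_mul_left h3 (by omega)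
    obtain ⟨h5, hp23⟩ := numerics hn5 hineq
    rcases hp23 with rfl | rfl
    · refine Or.inr ⟨h5, rfl, ?_⟩
      rw [h5] at hP
      norm_num at hP
      rwa [show P₂ = 155 by omega] at hPd
    · exfalso
      rw [h5] at hP hcard
      norm_num at hP hcard
      have hP' : P₂ = 1210 := by omega
      rw [hP'] at hPd hPhalf
      have hle := Nat.le_of_dvd (by norm_num) hcard
      haveI : Fact (Nat.Prime 2) := ⟨Nat.prime_two⟩
      obtain ⟨z, hz⟩ := exists_prime_orderOf_dvd_card' (G := H) 2 (dvd_trans (by norm_num) hPd)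
      obtain ⟨f, -, hker⟩ := exists_galHom ρ hu ⊤ (fun h _ => hnorm h)
      letI : Field (cent (ρ x)) := hu.field.1.toField
      haveI : Finite (Module.End (ZMod 3) V) := Module.finite_of_finite (ZMod 3)
      have hf1 : f ⟨z, trivial⟩ = 1 := by
        rw [← orderOf_eq_one_iff]
        refine Nat.eq_one_of_dvd_coprimes (by norm_num : Nat.Coprime 2 5) ?_ ?_
        · refine (orderOf_map_dvd f _).trans ?_
          rw [← Subgroup.orderOf_coe, hz]
        · refine (orderOf_dvd_natCard _).trans (dvd_of_eq ?_)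
          rw [IsGalois.card_aut_eq_finrank, hfr, h5]
      have hzc := hker _ hf1
      set e : cent (ρ x) := ⟨(ρ z : Module.End (ZMod 3) V), hzc⟩
      have he2 : e * e = 1 := Subtype.ext (by
        show (ρ z : Module.End (ZMod 3) V) * ρ z = 1
        rw [← Units.val_mul, ← map_mul, ← pow_two, ← hz, pow_orderOf_eq_one, map_one, Units.val_one])
      have hz1 : z ≠ 1 := fun h => by rw [h, orderOf_one] at hz; omega
      rcases mul_self_eq_one_iff.mp he2 with h | h
      · exact hz1 (hinj (by rw [map_one]; exact Units.ext (congrArg Subtype.val h)))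
      · have hneg : (ρ z : Module.End (ZMod 3) V) = -1 := congrArg Subtype.val h
        have := hPhalf z hz1 fun W _ => by
          rw [hneg]
          ext v
          simp [Submodule.mem_map]
        omega
  · intro h3 hp2
    subst hp2
    rw [h3] at hL
    norm_num at hL
    rwa [hL] at hLd

end Cfsg.Agent.Lib.Elem70.Semilinear
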