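import Cfsg.Agent.Lib.Elem70.Semilinear.Orders
import Cfsg.Agent.Lib.PSolvable.Basic
import Cfsg.Prelude.Def_Perm

/-!
A group with an elementary abelian normal subgroup whose complement normalises the field of a
primitive element embeds in the semi-affine group of that field.
-/

set_option autoImplicit false

namespace Cfsg.Agent.Lib.Elem70.Semilinear

variable {p : ℕ} [hp : Fact p.Prime]

theorem card_ringAut_galoisField {n : ℕ} (hn : n ≠ 0) :
    Nat.card (GaloisField p n ≃+* GaloisField p n) ≤ n := by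
  refine le_trans (Nat.card_le_card_of_injective
    (fun e => AlgEquiv.ofRingEquiv (R := ZMod p) (f := e) fun x =>
      RingHom.congr_fun (RingHom.ext_zmod (e.toRingHom.comp (algebraMap (ZMod p) (GaloisField p n)))
        (algebraMap (ZMod p) (GaloisField p n))) x) ?_) ?_
  · intro a b h
    exact RingEquiv.ext fun x => AlgEquiv.congr_fun h x
  · exact (IsGalois.card_aut_eq_finrank (ZMod p) (GaloisField p n)).trans_le (GaloisField.finrank p hn).le

theorem card_semiaffineGroup_le {n : ℕ} (hn : n ≠ 0) :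
    Nat.card (Cfsg.semiaffineGroup (GaloisField p n)) ≤ (p ^ n - 1) * p ^ n * n := by
  haveI : Finite (GaloisField p n ≃+* GaloisField p n) := Finite.of_injective _ DFunLike.coe_injective
  let g : (GaloisField p n)ˣ × GaloisField p n × (GaloisField p n ≃+* GaloisField p n) →
      Cfsg.semiaffineGroup (GaloisField p n) := fun t =>
    ⟨(t.2.2.toEquiv.trans (Equiv.mulLeft₀ (t.1 : GaloisField p n) t.1.ne_zero)).trans (Equiv.addRight t.2.1),
      t.1, t.2.1, t.2.2, fun x => rfl⟩
  have hg : Function.Surjective g := fun ⟨σ, a, b, φ, hσ⟩ =>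
    ⟨(a, b, φ), Subtype.ext (Equiv.ext fun x => (hσ x).symm)⟩
  refine (Nat.card_le_card_of_surjective g hg).trans (le_of_le_of_eq ?_ (mul_assoc _ _ _).symm)
  rw [Nat.card_prod, Nat.card_prod, Nat.card_units, GaloisField.card p n hn]
  exact Nat.mul_le_mul_left _ (Nat.mul_le_mul_left _ (card_ringAut_galoisField hn))

theorem card_affineGroup_le {n : ℕ} (hn : n ≠ 0) :
    Nat.card (Cfsg.affineGroup (GaloisField p n)) ≤ (p ^ n - 1) * p ^ n := by
  let g : (GaloisField p n)ˣ × GaloisField p n → Cfsg.affineGroup (GaloisField p n) := fun t =>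
    ⟨(Equiv.mulLeft₀ (t.1 : GaloisField p n) t.1.ne_zero).trans (Equiv.addRight t.2), t.1, t.2, fun x => rfl⟩
  have hg : Function.Surjective g := fun ⟨σ, a, b, hσ⟩ =>
    ⟨(a, b), Subtype.ext (Equiv.ext fun x => (hσ x).symm)⟩
  refine (Nat.card_le_card_of_surjective g hg).trans_eq ?_
  rw [Nat.card_prod, Nat.card_units, GaloisField.card p n hn]

variable {V : Type*} [AddCommGroup V] [Module (ZMod p) V] [Finite V] {r : ℕ}
  {u : (Module.End (ZMod p) V)ˣ}

theorem exists_hom_semiaffine {Q : Type*} [Group Q] [Finite Q] (hQ : Cfsg.pPrimeCore p Q = ⊥)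
    (A L : Subgroup Q) (hAL : Subgroup.IsComplement' A L) (hco : (Nat.card L).Coprime p)
    (ρ : L →* (Module.End (ZMod p) V)ˣ) (e : V ≃ A) (he : ∀ v w, e (v + w) = e v * e w)
    (hρ : ∀ (l : L) (v : V), ((e ((ρ l : Module.End (ZMod p) V) v)) : Q) = l * e v * (l : Q)⁻¹)
    (hu : IsPrimitive r u)
    (hfr : Module.finrank (ZMod p) (cent u) = Module.finrank (ZMod p) V)
    (hnorm : ∀ h : L,
      ((ρ h * u * (ρ h)⁻¹ : (Module.End (ZMod p) V)ˣ) : Module.End (ZMod p) V) ∈ cent u) :
    ∃ f : Q →* Cfsg.semiaffineGroup (GaloisField p (Module.finrank (ZMod p) V)), Function.Injective f ∧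
      ((Nat.card L).Coprime (Module.finrank (ZMod p) V) →
        ∀ q, (f q : Equiv.Perm _) ∈ Cfsg.affineGroup (GaloisField p (Module.finrank (ZMod p) V))) := by
  classical
  set n := Module.finrank (ZMod p) V with hn
  letI : Field (cent u) := hu.field.1.toField
  haveI : Finite (Module.End (ZMod p) V) := Module.finite_of_finite (ZMod p)
  haveI : Nontrivial V := Module.finrank_pos_iff.mp hu.pos
  obtain ⟨v₀, hv₀⟩ := exists_ne (0 : V)
  have hinjK : Function.Injective fun c : cent u => (c : Module.End (ZMod p) V) v₀ := by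
    intro a b h
    have h0 : ((a - b : cent u) : Module.End (ZMod p) V) v₀ = 0 := by
      rw [show ((a - b : cent u) : Module.End (ZMod p) V) = (a : Module.End (ZMod p) V) - b from rfl,
        LinearMap.sub_apply, sub_eq_zero]
      exact h
    by_contra hab
    apply hv₀
    have h1 := congrArg (((a - b)⁻¹ : cent u) : Module.End (ZMod p) V) h0
    rw [map_zero, ← Module.End.mul_apply, ← Subalgebra.coe_mul, inv_mul_cancel₀ (sub_ne_zero.mpr hab)] at h1
    simpa using h1
  have hKcard : Nat.card (cent u) = p ^ n := by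
    rw [Module.natCard_eq_pow_finrank (K := ZMod p) (V := cent u), Nat.card_zmod, hfr]
  have hbij : Function.Bijective fun c : cent u => (c : Module.End (ZMod p) V) v₀ := by
    refine hinjK.bijective_of_nat_card_le (le_of_eq ?_)
    rw [hKcard, Module.natCard_eq_pow_finrank (K := ZMod p) (V := V), Nat.card_zmod]
  set κ := Equiv.ofBijective _ hbij with hκdef
  have hκ : ∀ c : cent u, κ c = (c : Module.End (ZMod p) V) v₀ := fun c => rfl
  have hκadd : ∀ a b : cent u, κ (a + b) = κ a + κ b := fun a b => by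
    simp [hκ]
  let α : GaloisField p n ≃ₐ[ZMod p] cent u := (GaloisField.algEquivGaloisField p n hKcard).symm
  obtain ⟨φ, hφ, -⟩ := exists_galHom ρ hu ⊤ (fun h _ => hnorm h)
  -- the bijection with the cosets of the complement
  let τ : GaloisField p n ≃ Q ⧸ L := (α.toEquiv.trans (κ.trans e)).trans
    (Equiv.ofBijective (fun a : A => ((a : Q) : Q ⧸ L)) (by
      refine ⟨fun a b h => ?_, fun c => ?_⟩
      · have h1 : (a : Q)⁻¹ * b ∈ L := QuotientGroup.eq.mp h
        have h2 : (a : Q)⁻¹ * b ∈ A := A.mul_mem (A.inv_mem a.2) b.2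
        have h3 := Subgroup.disjoint_def.mp hAL.disjoint h2 h1
        exact Subtype.ext (inv_mul_eq_one.mp h3)
      · obtain ⟨g, rfl⟩ := QuotientGroup.mk_surjective c
        obtain ⟨⟨a, l⟩, hal⟩ := hAL.2 g
        refine ⟨a, QuotientGroup.eq.mpr ?_⟩
        rw [← hal]; simpa using l.2))
  have hτ : ∀ x, τ x = ((e (κ (α x)) : A) : Q) := fun x => rfl
  let f₀ : Q →* Equiv.Perm (GaloisField p n) :=
    τ.symm.permCongrHom.toMonoidHom.comp (MulAction.toPermHom Q (Q ⧸ L))
  have hf₀ : ∀ q x y, q • τ x = τ y → f₀ q x = y := fun q x y h => by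
    show τ.symm (q • τ x) = y
    rw [h, Equiv.symm_apply_apply]
  have hAc : ∀ a b : A, a * b = b * a := fun a b => by
    rw [← e.apply_symm_apply a, ← e.apply_symm_apply b, ← he, ← he, add_comm]
  -- the shape of the permutations
  have hshape : ∀ q : Q, ∃ (a : (GaloisField p n)ˣ) (b : GaloisField p n) (l : L),
      ∀ x, f₀ q x = (a : GaloisField p n) * α.symm ((φ ⟨l, Subgroup.mem_top l⟩) (α x)) + b := by
    intro q
    obtain ⟨⟨a, l⟩, hal⟩ := hAL.2 q
    obtain ⟨d, hd⟩ := hbij.2 ((ρ l : Module.End (ZMod p) V) v₀)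
    obtain ⟨b, hb⟩ := hbij.2 (e.symm a)
    have hd0 : α.symm d ≠ 0 := fun h => hv₀ (by
      rw [EmbeddingLike.map_eq_zero_iff] at h
      subst h
      have h2 : (ρ l : Module.End (ZMod p) V) v₀ = 0 := hd.symm.trans (by simp)
      exact ((Module.End.isUnit_iff _).mp (ρ l).isUnit).1 (h2.trans (map_zero _).symm))
    refine ⟨Units.mk0 _ hd0, α.symm b, l, fun x => hf₀ q x _ ?_⟩
    rw [hτ, hτ, Units.val_mk0, map_add, map_mul, AlgEquiv.apply_symm_apply, AlgEquiv.apply_symm_apply,
      AlgEquiv.apply_symm_apply, hκadd, he]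
    have hb' : e (κ b) = a := by rw [hκ, show (b : Module.End (ZMod p) V) v₀ = e.symm a from hb, Equiv.apply_symm_apply]
    have hk : κ (d * φ ⟨l, Subgroup.mem_top l⟩ (α x)) = (ρ l : Module.End (ZMod p) V) (κ (α x)) := by
      rw [mul_comm, hκ, hκ, Subalgebra.coe_mul, Module.End.mul_apply,
        show (d : Module.End (ZMod p) V) v₀ = (ρ l : Module.End (ZMod p) V) v₀ from hd, hφ,
        Module.End.mul_apply, Module.End.mul_apply]
      congr 2
      show ((ρ l)⁻¹ : (Module.End (ZMod p) V)ˣ).val ((ρ l : Module.End (ZMod p) V) v₀) = v₀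
      rw [← Module.End.mul_apply, Units.inv_mul, Module.End.one_apply]
    rw [hk, hb', MulAction.Quotient.smul_mk, ← hal, Subgroup.coe_mul, hρ]
    refine QuotientGroup.eq.mpr ?_
    have hcomm : ((l : Q) * e (κ (α x)) * (l : Q)⁻¹) * (a : Q) = (a : Q) * ((l : Q) * e (κ (α x)) * (l : Q)⁻¹) := by
      rw [← hρ, ← Subgroup.coe_mul, ← Subgroup.coe_mul]
      rw [hAc]
    rw [hcomm]
    simp [smul_eq_mul, mul_assoc]
  refine ⟨f₀.codRestrict _ (fun q => ?_), ?_, fun hcop q => ?_⟩
  · obtain ⟨a, b, l, h⟩ := hshape q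
    exact ⟨a, b, ((α.trans (φ ⟨l, Subgroup.mem_top l⟩)).trans α.symm).toRingEquiv, fun x => h x⟩
  · rw [MonoidHom.injective_codRestrict, ← MonoidHom.ker_eq_bot_iff]
    have hk : f₀.ker = (MulAction.toPermHom Q (Q ⧸ L)).ker :=
      (MulAction.toPermHom Q (Q ⧸ L)).ker_mulEquiv_comp τ.symm.permCongrHom
    rw [hk, ← Subgroup.normalCore_eq_ker, eq_bot_iff, ← hQ]
    exact PSolvable.le_pPrimeCore inferInstance
      (Nat.Coprime.of_dvd_left (Subgroup.card_dvd_of_le L.normalCore_le) hco)
  · obtain ⟨a, b, l, h⟩ := hshape q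
    have h1 : φ ⟨l, Subgroup.mem_top l⟩ = 1 := by
      rw [← orderOf_eq_one_iff]
      refine Nat.eq_one_of_dvd_coprimes hcop ?_ ?_
      · refine (orderOf_map_dvd φ _).trans ?_
        rw [← Subgroup.orderOf_coe]
        exact orderOf_dvd_natCard _
      · refine (orderOf_dvd_natCard _).trans (dvd_of_eq ?_)
        rw [IsGalois.card_aut_eq_finrank, hfr]
    exact ⟨a, b, fun x => by
      have := h x
      rw [h1, AlgEquiv.one_apply, AlgEquiv.symm_apply_apply] at this
      exact this⟩

end Cfsg.Agent.Lib.Elem70.Semilinear
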