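import Cfsg.Agent.Lib.Elem70.Semilinear.Solvable

/-!
Order bounds coming from the field of a primitive element: the normaliser of the field, the part
of a prime not dividing `p ^ n - 1`, and the exceptional pair `(2, 6)`.
-/

set_option autoImplicit false

namespace Cfsg.Agent.Lib.Elem70.Semilinear

open scoped commutatorElement

variable {p : ℕ} [hp : Fact p.Prime] {V : Type*} [AddCommGroup V] [Module (ZMod p) V] [Finite V]
  {H : Type*} [Group H] [Finite H] (ρ : H →* (Module.End (ZMod p) V)ˣ) {r : ℕ}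
  {u : (Module.End (ZMod p) V)ˣ}

omit [Finite H] in
/-- Conjugation by an element of the normaliser, on the field. -/
theorem exists_galHom (hu : IsPrimitive r u) (N : Subgroup H)
    (hN : ∀ h ∈ N, ((ρ h * u * (ρ h)⁻¹ : (Module.End (ZMod p) V)ˣ) : Module.End (ZMod p) V) ∈ cent u) :
    ∃ f : N →* (cent u ≃ₐ[ZMod p] cent u),
      (∀ (h : N) (c : cent u), ((f h c : cent u) : Module.End (ZMod p) V) =
        (ρ (h : H) : Module.End (ZMod p) V) * c * ((ρ (h : H))⁻¹ : (Module.End (ZMod p) V)ˣ).val) ∧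
      ∀ h : N, f h = 1 → (ρ (h : H) : Module.End (ZMod p) V) ∈ cent u := by
  have key : ∀ h ∈ N, ∀ c ∈ cent u,
      (ρ h : Module.End (ZMod p) V) * c * ((ρ h)⁻¹ : (Module.End (ZMod p) V)ˣ).val ∈ cent u :=
    fun h hh c hc => hu.conj_cent (ρ h) (hN h hh) hc
  have hinv : ∀ h : H, ρ h⁻¹ = (ρ h)⁻¹ := fun h => map_inv ρ h
  let g : N → (cent u ≃ₐ[ZMod p] cent u) := fun h =>
    { toFun := fun c => ⟨_, key h h.2 c c.2⟩
      invFun := fun c => ⟨_, key (h : H)⁻¹ (inv_mem h.2) c c.2⟩
      left_inv := fun c => Subtype.ext (by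
        show (ρ (h : H)⁻¹ : Module.End (ZMod p) V) * _ * _ = _
        simp [mul_assoc])
      right_inv := fun c => Subtype.ext (by
        show (ρ (h : H) : Module.End (ZMod p) V) * _ * _ = _
        simp [mul_assoc])
      map_mul' := fun a b => Subtype.ext (by
        show (ρ (h : H) : Module.End (ZMod p) V) * ((a : Module.End (ZMod p) V) * b) * _ = _ * _
        simp [mul_assoc])
      map_add' := fun a b => Subtype.ext (by
        show (ρ (h : H) : Module.End (ZMod p) V) * ((a : Module.End (ZMod p) V) + b) * _ = _ + _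
        rw [mul_add, add_mul])
      commutes' := fun k => Subtype.ext (by
        show (ρ (h : H) : Module.End (ZMod p) V) * algebraMap (ZMod p) (Module.End (ZMod p) V) k * _ = _
        rw [← Algebra.commutes k (ρ (h : H) : Module.End (ZMod p) V), mul_assoc, Units.mul_inv, mul_one]
        rfl) }
  refine ⟨MonoidHom.mk' g fun a b => AlgEquiv.ext fun c => Subtype.ext (by
    show (ρ ((a : H) * b) : Module.End (ZMod p) V) * _ * _ = (ρ (a : H) : Module.End (ZMod p) V) * _ * _
    simp [g, mul_assoc]), fun h c => rfl, fun h hh => ?_⟩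
  have h1 := congrArg (fun t : cent u => (t : Module.End (ZMod p) V))
    (AlgEquiv.congr_fun hh ⟨_, hu.mem_self⟩)
  have h2 : (ρ (h : H) : Module.End (ZMod p) V) * u * ((ρ (h : H))⁻¹ : (Module.End (ZMod p) V)ˣ).val = u := h1
  rw [mem_cent]
  calc (u : Module.End (ZMod p) V) * ρ (h : H)
      = (ρ (h : H) : Module.End (ZMod p) V) * u * ((ρ (h : H))⁻¹ : (Module.End (ZMod p) V)ˣ).val * ρ (h : H) := by rw [h2]
    _ = _ := by simp [mul_assoc]

/-- The normaliser of the field has order dividing `n (p ^ n - 1)`. -/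
theorem card_dvd_of_normalizes (hinj : Function.Injective ρ) (hu : IsPrimitive r u) (N : Subgroup H)
    (hN : ∀ h ∈ N, ((ρ h * u * (ρ h)⁻¹ : (Module.End (ZMod p) V)ˣ) : Module.End (ZMod p) V) ∈ cent u) :
    Nat.card N ∣ Module.finrank (ZMod p) V * (p ^ Module.finrank (ZMod p) V - 1) := by
  obtain ⟨f, -, hker⟩ := exists_galHom ρ hu N hN
  letI : Field (cent u) := hu.field.1.toField
  haveI : Finite (Module.End (ZMod p) V) := Module.finite_of_finite (ZMod p)
  rw [← f.ker.index_mul_card, Subgroup.index_ker]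
  refine mul_dvd_mul ?_ ?_
  · refine (Subgroup.card_subgroup_dvd_card f.range).trans ?_
    rw [IsGalois.card_aut_eq_finrank]
    exact hu.finrank_cent.1
  · let g : f.ker →* (cent u)ˣ :=
      { toFun := fun h =>
          { val := ⟨(ρ ((h : N) : H) : Module.End (ZMod p) V), hker _ h.2⟩
            inv := ⟨(ρ (((h⁻¹ : f.ker) : N) : H) : Module.End (ZMod p) V), hker _ (h⁻¹).2⟩
            val_inv := Subtype.ext (by
              show (ρ ((h : N) : H) : Module.End (ZMod p) V) * ρ (((h : N) : H)⁻¹) = 1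
              simp)
            inv_val := Subtype.ext (by
              show (ρ (((h : N) : H)⁻¹) : Module.End (ZMod p) V) * ρ ((h : N) : H) = 1
              simp) }
        map_one' := Units.ext (Subtype.ext (by simp))
        map_mul' := fun a b => Units.ext (Subtype.ext (by simp)) }
    have hg : Function.Injective g := fun a b h => by
      have h1 := congrArg (fun t : (cent u)ˣ => ((t : cent u) : Module.End (ZMod p) V)) h
      exact Subtype.ext (Subtype.ext (hinj (Units.ext h1)))
    refine (Subgroup.card_dvd_of_injective g hg).trans ?_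
    rw [Nat.card_units, Module.natCard_eq_pow_finrank (K := ZMod p) (V := cent u), Nat.card_zmod]
    exact Nat.pow_sub_one_dvd_pow_sub_one p hu.finrank_cent.1

/-- The subgroup of fixed vectors of a `t`-subgroup, `t` not dividing `p ^ n - 1`, is nonzero. -/
theorem exists_fixed {t : ℕ} [Fact t.Prime] (M : Subgroup H) (hM : IsPGroup t M)
    (ht : ¬ t ∣ Nat.card V - 1) :
    ∃ v : V, v ≠ 0 ∧ ∀ m ∈ M, (ρ m : Module.End (ZMod p) V) v = v := by
  letI : MulAction M V := MulAction.compHom V ((Units.coeHom _).comp (ρ.comp M.subtype))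
  have h := hM.card_modEq_card_fixedPoints V
  by_contra hcon
  push Not at hcon
  have h1 : MulAction.fixedPoints M V = ({0} : Set V) := by
    ext v
    rw [Set.mem_singleton_iff, MulAction.mem_fixedPoints]
    refine ⟨fun hv => ?_, fun hv m => by subst hv; exact map_zero (ρ (m : H) : Module.End (ZMod p) V)⟩
    by_contra hv0
    obtain ⟨m, hm, hne⟩ := hcon v hv0
    exact hne (hv ⟨m, hm⟩)
  rw [h1, Nat.card_coe_set_eq, Set.ncard_singleton] at h
  exact ht ((Nat.modEq_iff_dvd' (Nat.one_le_iff_ne_zero.mpr Nat.card_pos.ne')).mp h.symm)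

/-- A prime not dividing `p ^ n - 1` divides a solvable group containing a primitive element to a
power dividing `n`. -/
theorem card_sylow_dvd_finrank [Group.IsSolvable H] (hinj : Function.Injective ρ)
    (hu : IsPrimitive r u) {x : H} (hx : ρ x = u) {t : ℕ} [ht : Fact t.Prime]
    (htn : ¬ t ∣ p ^ Module.finrank (ZMod p) V - 1) (T : Sylow t H) :
    Nat.card T ∣ Module.finrank (ZMod p) V := by
  classical
  set n := Module.finrank (ZMod p) V with hn
  have hV : Nat.card V = p ^ n := by
    rw [Module.natCard_eq_pow_finrank (K := ZMod p) (V := V), Nat.card_zmod]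
  haveI := Fact.mk hu.prime
  obtain ⟨R, hR⟩ := Hall.exists_isPiHall (G := H) ({r, t} : Set ℕ)
  have hrH : r ∣ Nat.card H := by
    have h1 : orderOf x = r := orderOf_eq_prime (hinj (by rw [map_pow, hx, hu.pow, map_one]))
      (fun h => hu.ne (by rw [← hx, h, map_one]))
    exact h1 ▸ orderOf_dvd_natCard x
  have hrR : r ∣ Nat.card R := by
    rw [← R.card_mul_index] at hrH
    exact (hu.prime.dvd_mul.mp hrH).resolve_right (hR.2 r hu.prime (by simp))
  haveI : Nontrivial R := Finite.one_lt_card_iff_nontrivial.mp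
    (lt_of_lt_of_le hu.prime.one_lt (Nat.le_of_dvd Nat.card_pos hrR))
  obtain ⟨k, hk⟩ := (Group.isSolvable_def (G := R)).mp inferInstance
  have hex : ∃ k, derivedSeries R k = ⊥ := ⟨k, hk⟩
  obtain ⟨m, hm⟩ := Nat.exists_eq_succ_of_ne_zero (n := Nat.find hex) fun h => by
    have := Nat.find_spec hex
    rw [h, derivedSeries_zero] at this
    exact top_ne_bot this
  set D := derivedSeries R m with hD
  have hDne : D ≠ ⊥ := Nat.find_min hex (by omega)
  have hDc : ∀ a ∈ D, ∀ b ∈ D, a * b = b * a := fun a ha b hb => by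
    have : ⁅a, b⁆ ∈ derivedSeries R (m + 1) := by
      rw [derivedSeries_succ]; exact Subgroup.commutator_mem_commutator ha hb
    rw [← Nat.succ_eq_add_one, ← hm, Nat.find_spec hex, Subgroup.mem_bot] at this
    exact commutatorElement_eq_one_iff_mul_comm.mp this
  -- the elements of prime order `q` in `D`
  have hOm : ∀ q : ℕ, ∃ M : Subgroup R, M.Normal ∧ (∀ a ∈ M, ∀ b ∈ M, a * b = b * a) ∧
      (∀ a ∈ M, a ^ q = 1) ∧ ∀ a ∈ D, a ^ q = 1 → a ∈ M := by
    intro q
    refine ⟨{ carrier := {a | a ∈ D ∧ a ^ q = 1}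
              mul_mem' := fun {a b} ha hb => ⟨D.mul_mem ha.1 hb.1, by
                rw [(show Commute a b from hDc a ha.1 b hb.1).mul_pow, ha.2, hb.2, one_mul]⟩
              one_mem' := ⟨D.one_mem, one_pow q⟩
              inv_mem' := fun {a} ha => ⟨D.inv_mem ha.1, by rw [inv_pow, ha.2, inv_one]⟩ },
      ⟨fun a ha g => ⟨(inferInstance : D.Normal).conj_mem a ha.1 g, by rw [conj_pow, ha.2]; group⟩⟩,
      fun a ha b hb => hDc a ha.1 b hb.1, fun a ha => ha.2, fun a ha h => ⟨ha, h⟩⟩
  obtain ⟨q, hq, hqD⟩ := Nat.exists_prime_and_dvd (n := Nat.card D) (fun h => hDne (Subgroup.card_eq_one.mp h))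
  obtain ⟨M, hMn, hMc, hMe, hMD⟩ := hOm q
  haveI := Fact.mk hq
  obtain ⟨a, ha⟩ := exists_prime_orderOf_dvd_card' q hqD
  have haM : (a : R) ∈ M := hMD a a.2 (by
    rw [← Subgroup.orderOf_coe] at ha
    rw [← ha]; exact pow_orderOf_eq_one _)
  have ha1 : (a : R) ≠ 1 := fun h => by
    rw [← Subgroup.orderOf_coe, h, orderOf_one] at ha
    exact hq.one_lt.ne ha
  have hqrt : q = r ∨ q = t := by
    have := hR.1 q hq (hqD.trans (Subgroup.card_subgroup_dvd_card D))
    simpa using this
  rcases hqrt with rfl | rfl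
  swap
  · -- a normal t-subgroup would fix a vector
    exfalso
    set M' := M.map R.subtype
    have hMp : IsPGroup q M' := by
      rintro ⟨_, b, hb, rfl⟩
      exact ⟨1, Subtype.ext (by simpa using congrArg Subtype.val (hMe b hb))⟩
    obtain ⟨v, hv0, hv⟩ := exists_fixed ρ M' hMp (by rwa [hV])
    obtain ⟨x₁, hx₁⟩ := exists_prime_orderOf_dvd_card' r hrR
    have hu₁ : IsPrimitive r (ρ (x₁ : H)) := by
      refine ⟨hu.prime, hu.ord, hu.pos, ?_, fun h => ?_⟩
      · rw [← map_pow, ← Subgroup.coe_pow, ← hx₁, pow_orderOf_eq_one, Subgroup.coe_one, map_one]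
      · have h1 : (x₁ : H) = 1 := hinj (h.trans (map_one ρ).symm)
        rw [← Subgroup.orderOf_coe, h1, orderOf_one] at hx₁
        exact hu.prime.one_lt.ne hx₁
    let W : Submodule (ZMod p) V :=
      { carrier := {w | ∀ m ∈ M', (ρ m : Module.End (ZMod p) V) w = w}
        add_mem' := fun {a b} ha hb m hm => by rw [map_add, ha m hm, hb m hm]
        zero_mem' := fun m _ => map_zero _
        smul_mem' := fun c a ha m hm => by rw [map_smul, ha m hm] }
    rcases hu₁.irred W (fun w hw m hm => by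
      obtain ⟨b, hb, rfl⟩ := hm
      have h1 := hw _ ⟨x₁⁻¹ * b * x₁, by simpa using hMn.conj_mem b hb x₁⁻¹, rfl⟩
      have h2 := congrArg (ρ (x₁ : H) : Module.End (ZMod p) V) h1
      rw [← Module.End.mul_apply, ← Units.val_mul, ← map_mul] at h2
      rw [← Module.End.mul_apply, ← Units.val_mul, ← map_mul]
      simpa [mul_assoc] using h2) with h | h
    · exact hv0 ((Submodule.mem_bot (ZMod p)).mp (h ▸ hv))
    · apply ha1
      refine Subtype.ext (hinj (Units.ext (LinearMap.ext fun w => ?_)))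
      rw [Subgroup.coe_one, map_one, Units.val_one, Module.End.one_apply]
      exact (h ▸ Submodule.mem_top : w ∈ W) _ ⟨a, haM, rfl⟩
  -- a normal subgroup of order r
  have hu₁ : IsPrimitive q (ρ ((a : R) : H)) := by
    refine ⟨hu.prime, hu.ord, hu.pos, ?_, fun h => ha1 (Subtype.ext (hinj (h.trans (map_one ρ).symm)))⟩
    rw [← map_pow, ← Subgroup.coe_pow, hMe _ haM, Subgroup.coe_one, map_one]
  have hN : ∀ h ∈ R, ((ρ h * ρ ((a : R) : H) * (ρ h)⁻¹ : (Module.End (ZMod p) V)ˣ) : Module.End (ZMod p) V) ∈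
      cent (ρ ((a : R) : H)) := by
    intro h hh
    have h1 := hMc _ (hMn.conj_mem _ haM ⟨h, hh⟩) _ haM
    have h2 := congrArg (fun t : R => (ρ (t : H) : Module.End (ZMod p) V)) h1
    rw [mem_cent]
    simpa [mul_assoc] using h2.symm
  have hcard := card_dvd_of_normalizes ρ hinj hu₁ R hN
  have hT : Nat.card T ∣ Nat.card R := by
    have h1 : Nat.card T ∣ Nat.card R * R.index := R.card_mul_index.symm ▸ Subgroup.card_subgroup_dvd_card _
    refine (Nat.Coprime.dvd_mul_right ?_).mp h1
    obtain ⟨j, hj⟩ := IsPGroup.iff_card.mp T.2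
    rw [hj]
    exact Nat.Coprime.pow_left _ (ht.out.coprime_iff_not_dvd.mpr (hR.2 t ht.out (by simp)))
  refine (Nat.Coprime.dvd_mul_right ?_).mp (hT.trans hcard)
  obtain ⟨j, hj⟩ := IsPGroup.iff_card.mp T.2
  rw [hj]
  exact Nat.Coprime.pow_left _ (ht.out.coprime_iff_not_dvd.mpr htn)

/-- No solvable subgroup of `GL₆(2)` has order divisible by `7` and by `31`. -/
theorem not_seven_thirtyone {V : Type*} [AddCommGroup V] [Module (ZMod 2) V] [Finite V]
    {H : Type*} [Group H] [Finite H] [Group.IsSolvable H] (ρ : H →* (Module.End (ZMod 2) V)ˣ)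
    (hinj : Function.Injective ρ) (hn : Module.finrank (ZMod 2) V = 6) (h7 : 7 ∣ Nat.card H)
    (h31 : 31 ∣ Nat.card H) : False := by
  classical
  haveI : Fact (Nat.Prime 7) := ⟨by norm_num⟩
  haveI : Fact (Nat.Prime 31) := ⟨by norm_num⟩
  obtain ⟨R, hR⟩ := Hall.exists_isPiHall (G := H) ({7, 31} : Set ℕ)
  have hd : ∀ q : ℕ, q.Prime → q ∈ ({7, 31} : Set ℕ) → q ∣ Nat.card H → q ∣ Nat.card R := by
    intro q hq hqm hqH
    rw [← R.card_mul_index] at hqH
    exact (hq.dvd_mul.mp hqH).resolve_right (hR.2 q hq hqm)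
  have hGL : Nat.card R ∣ 2 ^ 15 * (3 ^ 4 * 5 * 7 ^ 2 * 31) := by
    haveI : FiniteDimensional (ZMod 2) V := Module.Finite.of_finite
    have e : (Module.End (ZMod 2) V)ˣ ≃* GL (Fin 6) (ZMod 2) :=
      Units.mapEquiv (algEquivMatrix (Module.finBasisOfFinrankEq (ZMod 2) V hn)).toMulEquiv
    have h1 : Nat.card H ∣ Nat.card (GL (Fin 6) (ZMod 2)) :=
      Subgroup.card_dvd_of_injective (e.toMonoidHom.comp ρ) (e.injective.comp hinj)
    refine (R.card_subgroup_dvd_card.trans h1).trans (dvd_of_eq ?_)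
    rw [Matrix.card_GL_field]
    simp [Fin.prod_univ_six, ZMod.card]
  have hR' : Nat.card R ∣ 7 ^ 2 * 31 := by
    refine (Nat.Coprime.dvd_mul_left ?_).mp (show Nat.card R ∣ 2 ^ 15 * (3 ^ 4 * 5) * (7 ^ 2 * 31) by
      convert hGL using 1
      norm_num)
    refine Nat.coprime_of_dvd fun q hq hqR hq2 => ?_
    have := hR.1 q hq hqR
    simp only [Set.mem_insert_iff, Set.mem_singleton_iff] at this
    rcases this with rfl | rfl <;> norm_num at hq2
  -- the Sylow 31-subgroup is normal and centralised by an element of order 7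
  obtain ⟨y, hy⟩ := exists_prime_orderOf_dvd_card' (G := R) 31 (hd 31 (by norm_num) (by simp) h31)
  obtain ⟨z, hz⟩ := exists_prime_orderOf_dvd_card' (G := R) 7 (hd 7 (by norm_num) (by simp) h7)
  obtain ⟨S, hS⟩ := (IsPGroup.of_card (n := 1) (p := 31) (G := Subgroup.zpowers y)
    (by rw [Nat.card_zpowers, hy, pow_one])).exists_le_sylow
  have hScard : Nat.card S = 31 := by
    obtain ⟨j, hj⟩ := IsPGroup.iff_card.mp S.2
    have hj0 : j ≠ 0 := by
      rintro rfl
      have := Subgroup.card_le_of_le hS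
      rw [Nat.card_zpowers, hy, hj] at this
      omega
    have h1 : 31 ^ j ∣ 7 ^ 2 * 31 := hj ▸ (Subgroup.card_subgroup_dvd_card _).trans hR'
    have h2 : 31 ^ j ∣ 31 := (Nat.Coprime.dvd_mul_left (Nat.Coprime.pow_left j (by norm_num))).mp h1
    exact hj.trans (le_antisymm (Nat.le_of_dvd (by norm_num) h2) (Nat.le_self_pow hj0 31))
  have hn31 : Nat.card (Sylow 31 R) = 1 := by
    have h1 := card_sylow_modEq_one 31 R
    have h2 : Nat.card (Sylow 31 R) ∣ 7 ^ 2 := by
      have h3 : Nat.card (Sylow 31 R) ∣ (S : Subgroup R).index := Sylow.card_dvd_index S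
      have h4 : (S : Subgroup R).index * 31 ∣ 7 ^ 2 * 31 := by
        have h5 := (S : Subgroup R).index_mul_card
        rw [show Nat.card (S : Subgroup R) = 31 from hScard] at h5
        rw [h5]; exact hR'
      exact h3.trans (Nat.dvd_of_mul_dvd_mul_right (by norm_num) h4)
    obtain ⟨j, hj, hj'⟩ := (Nat.dvd_prime_pow (by norm_num : Nat.Prime 7)).mp h2
    rw [hj'] at h1 ⊢
    interval_cases j <;> simp_all [Nat.ModEq]
  haveI : Subsingleton (Sylow 31 R) := (Nat.card_eq_one_iff_unique.mp hn31).1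
  have hSy : (S : Subgroup R) = Subgroup.zpowers y :=
    (Subgroup.eq_of_le_of_card_ge hS (by rw [Nat.card_zpowers, hy]; exact hScard.le)).symm
  have hyn : (Subgroup.zpowers y).Normal := hSy ▸ S.normal_of_subsingleton
  have hzy : z * y = y * z := by
    obtain ⟨i, hi⟩ := Subgroup.mem_zpowers_iff.mp (hyn.conj_mem y (Subgroup.mem_zpowers y) z)
    have hiter : ∀ j : ℕ, z ^ j * y * (z ^ j)⁻¹ = y ^ (i ^ j) := by
      intro j
      induction j with
      | zero => simp
      | succ j ih =>
        calc z ^ (j + 1) * y * (z ^ (j + 1))⁻¹ = z * (z ^ j * y * (z ^ j)⁻¹) * z⁻¹ := by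
              rw [pow_succ']; group
          _ = (z * y * z⁻¹) ^ (i ^ j) := by rw [ih, conj_zpow]
          _ = _ := by rw [← hi, ← zpow_mul, pow_succ']
    have h7' := hiter 7
    rw [← hz, pow_orderOf_eq_one, hz, inv_one, mul_one, one_mul] at h7'
    have h1 : ((i : ZMod 31)) ^ 7 = 1 := by
      have h2 : (31 : ℤ) ∣ i ^ 7 - 1 := by
        rw [show (31 : ℤ) = (orderOf y : ℤ) by rw [hy]; rfl, orderOf_dvd_iff_zpow_eq_one, zpow_sub, ← h7',
          zpow_one, mul_inv_cancel]
      have h3 := (ZMod.intCast_zmod_eq_zero_iff_dvd _ 31).mpr (by exact_mod_cast h2)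
      push_cast at h3
      exact sub_eq_zero.mp h3
    have h2 : (i : ZMod 31) = 1 := by
      have h30 : (i : ZMod 31) ^ 30 = 1 := ZMod.pow_card_sub_one_eq_one (fun h => by
        rw [h] at h1; simp at h1)
      have := orderOf_dvd_of_pow_eq_one h1
      have h4 := orderOf_dvd_of_pow_eq_one h30
      exact orderOf_eq_one_iff.mp (Nat.eq_one_of_dvd_coprimes (by norm_num : Nat.Coprime 7 30) this h4)
    have h5 : y ^ i = y := by
      conv_rhs => rw [← zpow_one y]
      rw [zpow_eq_zpow_iff_modEq, hy, ← ZMod.intCast_eq_intCast_iff, h2, Int.cast_one]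
    rw [h5] at hi
    exact mul_inv_eq_iff_eq_mul.mp hi.symm
  -- a vector moved by both
  set Y := (ρ (y : H) : Module.End (ZMod 2) V) with hY
  set Z := (ρ (z : H) : Module.End (ZMod 2) V) with hZ
  have hne : ∀ g : R, g ≠ 1 → ∃ v, (ρ (g : H) : Module.End (ZMod 2) V) v ≠ v := by
    intro g hg
    by_contra h
    push Not at h
    refine hg (Subtype.ext (hinj (Units.ext (LinearMap.ext fun v => ?_))))
    rw [Subgroup.coe_one, map_one, Units.val_one, Module.End.one_apply]
    exact h v
  obtain ⟨v, hvy, hvz⟩ : ∃ v, Y v ≠ v ∧ Z v ≠ v := by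
    obtain ⟨a, ha⟩ := hne y (fun h => by rw [h, orderOf_one] at hy; omega)
    obtain ⟨b, hb⟩ := hne z (fun h => by rw [h, orderOf_one] at hz; omega)
    by_cases ha' : Z a = a
    · by_cases hb' : Y b = b
      · refine ⟨a + b, ?_, ?_⟩
        · rw [map_add, hb']; exact fun h => ha (add_right_cancel h)
        · rw [map_add, ha']; exact fun h => hb (add_left_cancel h)
      · exact ⟨b, hb', hb⟩
    · exact ⟨a, ha, ha'⟩
  set g := y * z with hg
  have hgo : orderOf g = 217 := by
    rw [hg, (show Commute y z from hzy.symm).orderOf_mul_eq_mul_orderOf_of_coprime (by rw [hy, hz]; norm_num), hy, hz]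
  let S' : Subgroup R :=
    { carrier := {h | (ρ (h : H) : Module.End (ZMod 2) V) v = v}
      mul_mem' := fun {a b} ha hb => by
        show (ρ ((a : H) * b) : Module.End (ZMod 2) V) v = v
        rw [map_mul, Units.val_mul, Module.End.mul_apply, hb, ha]
      one_mem' := by simp
      inv_mem' := fun {a} ha => by
        show (ρ ((a : H)⁻¹) : Module.End (ZMod 2) V) v = v
        conv_lhs => rw [← (ha : (ρ (a : H) : Module.End (ZMod 2) V) v = v)]
        rw [← Module.End.mul_apply, ← Units.val_mul, ← map_mul, inv_mul_cancel, map_one, Units.val_one,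
          Module.End.one_apply] }
  have hinj' : Function.Injective fun j : Fin 217 => (ρ ((g ^ (j : ℕ) : R) : H) : Module.End (ZMod 2) V) v := by
    have key : ∀ a b : Fin 217, (a : ℕ) < b →
        (ρ ((g ^ (a : ℕ) : R) : H) : Module.End (ZMod 2) V) v ≠ (ρ ((g ^ (b : ℕ) : R) : H) : Module.End (ZMod 2) V) v := by
      intro a b hab heq
      have hd : g ^ ((b : ℕ) - a) ∈ S' := by
        have h1 := congrArg (ρ ((g ^ (a : ℕ) : R) : H)⁻¹ : Module.End (ZMod 2) V) heq
        rw [← Module.End.mul_apply, ← Module.End.mul_apply, ← Units.val_mul, ← Units.val_mul, ← map_mul,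
          ← map_mul, inv_mul_cancel, map_one, Units.val_one, Module.End.one_apply] at h1
        have h2 : g ^ ((b : ℕ) - a) = (g ^ (a : ℕ))⁻¹ * g ^ (b : ℕ) := by
          conv_rhs => rw [← Nat.add_sub_cancel' hab.le, pow_add, inv_mul_cancel_left]
        show (ρ ((g ^ ((b : ℕ) - a) : R) : H) : Module.End (ZMod 2) V) v = v
        rw [h2, Subgroup.coe_mul, Subgroup.coe_inv]
        exact h1.symm
      set d := (b : ℕ) - a
      have hd0 : 0 < d ∧ d < 217 := by omega
      by_cases h7' : 7 ∣ d
      · -- then it lies in ⟨y⟩ and is nontrivial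
        obtain ⟨e, he⟩ := h7'
        have hze : z ^ d = 1 := by rw [he, pow_mul, ← hz, pow_orderOf_eq_one, one_pow]
        rw [hg, (show Commute y z from hzy.symm).mul_pow, hze, mul_one] at hd
        obtain ⟨c, -, hc⟩ := Nat.exists_mul_mod_eq_one_of_coprime (k := 31) (n := d)
          (Nat.Coprime.symm ((by norm_num : Nat.Prime 31).coprime_iff_not_dvd.mpr fun h => by omega)) (by norm_num)
        refine hvy (?_ : y ∈ S')
        have := S'.pow_mem hd c
        rwa [← pow_mul, ← pow_mod_orderOf, hy, hc, pow_one] at this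
      · obtain ⟨c, -, hc⟩ := Nat.exists_mul_mod_eq_one_of_coprime (k := 7) (n := d * 31)
          (Nat.Coprime.symm ((by norm_num : Nat.Prime 7).coprime_iff_not_dvd.mpr fun h => h7'
            (((by norm_num : Nat.Prime 7).dvd_mul.mp h).resolve_right (by norm_num)))) (by norm_num)
        refine hvz (?_ : z ∈ S')
        have h31' := S'.pow_mem (S'.pow_mem hd 31) c
        rw [← pow_mul, ← pow_mul, hg, (show Commute y z from hzy.symm).mul_pow,
          show d * (31 * c) = 31 * (d * c) by ring, pow_mul y, ← hy, pow_orderOf_eq_one, one_pow, one_mul,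
          hy, show 31 * (d * c) = d * 31 * c by ring, ← pow_mod_orderOf, hz, hc, pow_one] at h31'
        exact h31'
    intro a b hab
    rcases lt_trichotomy (a : ℕ) b with h | h | h
    · exact absurd hab (key a b h)
    · exact Fin.ext h
    · exact absurd hab.symm (key b a h)
  have := Nat.card_le_card_of_injective _ hinj'
  rw [Module.natCard_eq_pow_finrank (K := ZMod 2) (V := V), hn, Nat.card_zmod, Nat.card_eq_fintype_card,
    Fintype.card_fin] at this
  norm_num at this

end Cfsg.Agent.Lib.Elem70.Semilinear
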