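import Cfsg.Agent.Lib.Elem70.Semilinear.Algebra
import Cfsg.Agent.Lib.Hall.Basic
import Cfsg.Agent.Lib.PGroups.MaxAbelian
import Mathlib

/-!
Solvable linear groups over `ZMod p` containing an element whose order is a primitive prime
divisor of `p ^ n - 1`.
-/

set_option autoImplicit false

namespace Cfsg.Agent.Lib.Elem70.Semilinear

open scoped commutatorElement

variable {p : ℕ} [hp : Fact p.Prime] {V : Type*} [AddCommGroup V] [Module (ZMod p) V] [Finite V]


/-- A primitive element: order a prime `r` with `p` of multiplicative order `dim V` modulo `r`. -/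
structure IsPrimitive (r : ℕ) (u : (Module.End (ZMod p) V)ˣ) : Prop where
  prime : r.Prime
  ord : orderOf (p : ZMod r) = Module.finrank (ZMod p) V
  pos : 0 < Module.finrank (ZMod p) V
  pow : u ^ r = 1
  ne : u ≠ 1

/-- The centraliser of `u`. -/
abbrev cent (u : (Module.End (ZMod p) V)ˣ) : Subalgebra (ZMod p) (Module.End (ZMod p) V) :=
  Subalgebra.centralizer (ZMod p) ({(u : (Module.End (ZMod p) V))} : Set (Module.End (ZMod p) V))

theorem mem_cent {u : (Module.End (ZMod p) V)ˣ} {e : (Module.End (ZMod p) V)} : e ∈ cent u ↔ (u : (Module.End (ZMod p) V)) * e = e * (u : (Module.End (ZMod p) V)) := by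
  rw [Subalgebra.mem_centralizer_iff]
  exact ⟨fun h => h _ rfl, fun h g hg => by rw [Set.mem_singleton_iff.mp hg]; exact h⟩

variable {r : ℕ} {u : (Module.End (ZMod p) V)ˣ}

theorem IsPrimitive.irred (hu : IsPrimitive r u) (W : Submodule (ZMod p) V)
    (hW : ∀ w ∈ W, (u : (Module.End (ZMod p) V)) w ∈ W) : W = ⊥ ∨ W = ⊤ := by
  refine Singer.eq_bot_or_eq_top hu.prime hu.pos (by rw [ZMod.card]; exact hu.ord) (u : (Module.End (ZMod p) V)) ?_ ?_ W ?_
  · rw [← Units.val_pow_eq_pow_val, hu.pow, Units.val_one]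
  · exact fun h => hu.ne (Units.ext h)
  · rintro _ ⟨w, hw, rfl⟩; exact hW w hw

theorem IsPrimitive.field (hu : IsPrimitive r u) :
    IsField (cent u) ∧ Nat.card (cent u) ≤ Nat.card V :=
  Singer.exists_field_centralizer hu.prime hu.pos (by rw [ZMod.card]; exact hu.ord) (u : (Module.End (ZMod p) V))
    (by rw [← Units.val_pow_eq_pow_val, hu.pow, Units.val_one]) fun h => hu.ne (Units.ext h)

theorem IsPrimitive.modEq_one (hu : IsPrimitive r u) :
    Module.finrank (ZMod p) V ∣ r - 1 ∧ Module.finrank (ZMod p) V < r := by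
  haveI := Fact.mk hu.prime
  have hne : (p : ZMod r) ≠ 0 := by
    intro h
    have h1 := pow_orderOf_eq_one (p : ZMod r)
    rw [hu.ord, h, zero_pow hu.pos.ne'] at h1
    exact zero_ne_one h1
  have h1 := orderOf_dvd_of_pow_eq_one (ZMod.pow_card_sub_one_eq_one hne)
  rw [hu.ord] at h1
  exact ⟨h1, by have := Nat.le_of_dvd (Nat.sub_pos_of_lt hu.prime.one_lt) h1; have := hu.prime.one_lt; omega⟩

theorem IsPrimitive.comm (hu : IsPrimitive r u) {a b : (Module.End (ZMod p) V)} (ha : a ∈ cent u) (hb : b ∈ cent u) :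
    a * b = b * a :=
  congrArg Subtype.val (hu.field.1.mul_comm (⟨a, ha⟩ : cent u) ⟨b, hb⟩)

theorem IsPrimitive.mem_self (_hu : IsPrimitive r u) : (u : (Module.End (ZMod p) V)) ∈ cent u := mem_cent.mpr rfl

/-- The dimension of the centraliser field divides `dim V`; it is `> 1` when `dim V > 1`. -/
theorem IsPrimitive.finrank_cent (hu : IsPrimitive r u) :
    Module.finrank (ZMod p) (cent u) ∣ Module.finrank (ZMod p) V ∧
      (1 < Module.finrank (ZMod p) V → Module.finrank (ZMod p) (cent u) ≠ 1) := by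
  letI : Field (cent u) := hu.field.1.toField
  refine ⟨Dvd.intro _ (Module.finrank_mul_finrank (ZMod p) (cent u) V), fun h1 hK => ?_⟩
  -- then u is a scalar
  obtain ⟨c, hc⟩ : ∃ c : ZMod p, algebraMap (ZMod p) (cent u) c = (⟨(u : (Module.End (ZMod p) V)), hu.mem_self⟩ : cent u) := by
    have h2 : Function.Bijective (algebraMap (ZMod p) (cent u)) := by
      refine ⟨(algebraMap (ZMod p) (cent u)).injective, ?_⟩
      have := (Subalgebra.bot_eq_top_of_finrank_eq_one hK)
      intro x
      have hx : x ∈ (⊥ : Subalgebra (ZMod p) (cent u)) := this ▸ Algebra.mem_top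
      exact Algebra.mem_bot.mp hx
    exact h2.2 _
  have hc' : (u : (Module.End (ZMod p) V)) = c • (1 : (Module.End (ZMod p) V)) := by
    have h4 : ((algebraMap (ZMod p) (cent u) c : cent u) : Module.End (ZMod p) V) = (u : Module.End (ZMod p) V) :=
      congrArg Subtype.val hc
    rw [← h4]; exact Algebra.algebraMap_eq_smul_one c
  have hV : Nontrivial V := Module.finrank_pos_iff.mp hu.pos
  obtain ⟨v, hv⟩ := exists_ne (0 : V)
  rcases hu.irred (Submodule.span (ZMod p) {v}) (fun w hw => by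
    rw [hc', LinearMap.smul_apply, Module.End.one_apply]; exact Submodule.smul_mem _ c hw) with h | h
  · exact hv (Submodule.span_singleton_eq_bot.mp h)
  · have h3 := finrank_span_singleton (K := ZMod p) hv
    rw [h, finrank_top] at h3
    omega

/-- An element conjugating `u` into its centraliser normalises the centraliser. -/
theorem IsPrimitive.conj_cent (hu : IsPrimitive r u) (g : (Module.End (ZMod p) V)ˣ)
    (hg : ((g * u * g⁻¹ : (Module.End (ZMod p) V)ˣ) : (Module.End (ZMod p) V)) ∈ cent u) {c : (Module.End (ZMod p) V)} (hc : c ∈ cent u) :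
    (g : (Module.End (ZMod p) V)) * c * ((g⁻¹ : (Module.End (ZMod p) V)ˣ) : (Module.End (ZMod p) V)) ∈ cent u := by
  letI : Field (cent u) := hu.field.1.toField
  haveI := Fact.mk hu.prime
  set w : cent u := ⟨((g * u * g⁻¹ : (Module.End (ZMod p) V)ˣ) : (Module.End (ZMod p) V)), hg⟩
  have hw : w ^ r = 1 := Subtype.ext (by
    show (((g * u * g⁻¹ : (Module.End (ZMod p) V)ˣ) : (Module.End (ZMod p) V))) ^ r = 1
    rw [← Units.val_pow_eq_pow_val, conj_pow, hu.pow, mul_one, mul_inv_cancel, Units.val_one])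
  have hw1 : w ≠ 1 := fun h => hu.ne (by
    have h1 : g * u * g⁻¹ = 1 := Units.ext (congrArg Subtype.val h)
    exact conj_eq_one_iff.mp h1)
  have hord : orderOf w = r := orderOf_eq_prime hw hw1
  have hU : (⟨(u : (Module.End (ZMod p) V)), hu.mem_self⟩ : cent u) ^ r = 1 := Subtype.ext (by
    show (u : (Module.End (ZMod p) V)) ^ r = 1
    rw [← Units.val_pow_eq_pow_val, hu.pow, Units.val_one])
  obtain ⟨i, -, hi⟩ := (IsPrimitiveRoot.iff_orderOf.mpr hord).eq_pow_of_pow_eq_one hU
  have hi' : ((g * u * g⁻¹ : (Module.End (ZMod p) V)ˣ) : (Module.End (ZMod p) V)) ^ i = (u : (Module.End (ZMod p) V)) := congrArg Subtype.val hi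
  rw [mem_cent, ← hi']
  refine (Commute.pow_left (?_ : Commute ((g * u * g⁻¹ : (Module.End (ZMod p) V)ˣ) : (Module.End (ZMod p) V)) _) i).eq
  show _ = _
  have hcu := mem_cent.mp hc
  calc ((g * u * g⁻¹ : (Module.End (ZMod p) V)ˣ) : (Module.End (ZMod p) V)) * ((g : (Module.End (ZMod p) V)) * c * ((g⁻¹ : (Module.End (ZMod p) V)ˣ) : (Module.End (ZMod p) V)))
      = (g : (Module.End (ZMod p) V)) * ((u : (Module.End (ZMod p) V)) * c) * ((g⁻¹ : (Module.End (ZMod p) V)ˣ) : (Module.End (ZMod p) V)) := by simp [mul_assoc]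
    _ = _ := by rw [hcu]; simp [mul_assoc]

variable {H : Type*} [Group H] [Finite H] (ρ : H →* (Module.End (ZMod p) V)ˣ)

/-- An abelian subgroup normalised by a primitive element is centralised by it. -/
theorem le_cent_of_normal (hu : IsPrimitive r u) {x : H} (hx : ρ x = u) (A : Subgroup H)
    (hA : ∀ a ∈ A, ∀ b ∈ A, a * b = b * a) (hxA : ∀ a ∈ A, x * a * x⁻¹ ∈ A) :
    ∀ a ∈ A, (ρ a : (Module.End (ZMod p) V)) ∈ cent u := by
  classical
  set S : Set (Module.End (ZMod p) V) := (fun a => (ρ a : (Module.End (ZMod p) V))) '' (A : Set H) with hS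
  let E := Algebra.adjoin (ZMod p) S
  have hcomm : ∀ a b : E, a * b = b * a := fun a b => Subtype.ext
    ((Algebra.adjoinCommRingOfComm (ZMod p) (s := S) (by
      rintro _ ⟨c, hc, rfl⟩ _ ⟨d, hd, rfl⟩
      rw [← Units.val_mul, ← Units.val_mul, ← map_mul, ← map_mul, hA c hc d hd])).mul_comm a b |> congrArg Subtype.val)
  have hnorm : ∀ e ∈ E, (u : (Module.End (ZMod p) V)) * e * ((u⁻¹ : (Module.End (ZMod p) V)ˣ) : (Module.End (ZMod p) V)) ∈ E := by
    intro e he
    induction he using Algebra.adjoin_induction with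
    | mem y hy =>
      obtain ⟨a, ha, rfl⟩ := hy
      refine Algebra.subset_adjoin ⟨x * a * x⁻¹, hxA a ha, ?_⟩
      rw [← hx]; simp [mul_assoc]
    | algebraMap k =>
      rw [← Algebra.commutes k (u : (Module.End (ZMod p) V)), mul_assoc, Units.mul_inv, mul_one]
      exact E.algebraMap_mem k
    | add y z _ _ hy hz => rw [mul_add, add_mul]; exact E.add_mem hy hz
    | mul y z _ _ hy hz =>
      have : (u : (Module.End (ZMod p) V)) * (y * z) * ((u⁻¹ : (Module.End (ZMod p) V)ˣ) : (Module.End (ZMod p) V)) =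
          ((u : (Module.End (ZMod p) V)) * y * ((u⁻¹ : (Module.End (ZMod p) V)ˣ) : (Module.End (ZMod p) V))) * ((u : (Module.End (ZMod p) V)) * z * ((u⁻¹ : (Module.End (ZMod p) V)ˣ) : (Module.End (ZMod p) V))) := by simp [mul_assoc]
      rw [this]; exact E.mul_mem hy hz
  intro a ha
  exact mem_cent.mpr (commute_of_normalizes hu.prime hu.modEq_one.2 u hu.pow hu.irred E hcomm hnorm _
    (Algebra.subset_adjoin ⟨a, ha, rfl⟩))

/-- The scalars of `H`. -/
def scalars : Subgroup H where
  carrier := {h | ∃ c : ZMod p, (ρ h : (Module.End (ZMod p) V)) = c • 1}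
  mul_mem' := fun {a b} ⟨c, hc⟩ ⟨d, hd⟩ => ⟨c * d, by rw [map_mul, Units.val_mul, hc, hd]; simp [smul_smul, mul_comm]⟩
  one_mem' := ⟨1, by simp⟩
  inv_mem' := fun {a} ⟨c, hc⟩ => by
    refine ⟨c⁻¹, ?_⟩
    rw [map_inv]
    rcases eq_or_ne c 0 with rfl | hc0
    · rw [inv_zero, zero_smul]
      have h0 : (1 : (Module.End (ZMod p) V)) = 0 := by rw [← Units.mul_inv (ρ a), hc, zero_smul, zero_mul]
      rw [← mul_one ((ρ a)⁻¹ : (Module.End (ZMod p) V)ˣ).val, h0, mul_zero]
    · refine Units.inv_eq_of_mul_eq_one_right ?_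
      rw [hc]
      simp [smul_smul, hc0]

theorem scalars_normal (hinj : Function.Injective ρ) :
    (scalars ρ).Normal ∧ ∀ s ∈ scalars ρ, ∀ h : H, h * s = s * h := by
  have hc : ∀ s ∈ scalars ρ, ∀ h : H, h * s = s * h := fun s ⟨c, hc⟩ h => hinj (by
    rw [map_mul, map_mul]
    exact Units.ext (by rw [Units.val_mul, Units.val_mul, hc, mul_smul_comm, smul_mul_assoc, one_mul, mul_one]))
  exact ⟨⟨fun s hs g => by rw [hc s hs g, mul_inv_cancel_right]; exact hs⟩, hc⟩

theorem conj_mem_cent_of_solvable [Group.IsSolvable H] (hinj : Function.Injective ρ)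
    (hn : (Module.finrank (ZMod p) V).Prime) (hodd : Odd (Module.finrank (ZMod p) V))
    (hu : IsPrimitive r u) {x : H} (hx : ρ x = u) (h : H) :
    ((ρ h * u * (ρ h)⁻¹ : (Module.End (ZMod p) V)ˣ) : (Module.End (ZMod p) V)) ∈ cent u := by
  classical
  set n := Module.finrank (ZMod p) V with hndef
  haveI hnf : Fact n.Prime := ⟨hn⟩
  haveI := Fact.mk hu.prime
  letI : Field (cent u) := hu.field.1.toField
  have hKn : Module.finrank (ZMod p) (cent u) = n :=
    ((Nat.dvd_prime hn).mp hu.finrank_cent.1).resolve_left (hu.finrank_cent.2 hn.one_lt)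
  obtain ⟨hSn, hScen⟩ := scalars_normal ρ hinj
  set S := scalars ρ with hSdef
  -- normal abelian subgroups lie in the centraliser; a non-scalar one finishes the proof
  by_cases hbig : ∃ A : Subgroup H, A.Normal ∧ (∀ a ∈ A, ∀ b ∈ A, a * b = b * a) ∧ ¬ A ≤ S
  · obtain ⟨A, hAn, hAc, hAS⟩ := hbig
    have hAK := le_cent_of_normal ρ hu hx A hAc (fun a ha => hAn.conj_mem a ha x)
    obtain ⟨a, ha, haS⟩ := SetLike.not_le_iff_exists.mp hAS
    haveI : IsSimpleOrder (Subalgebra (ZMod p) (cent u)) :=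
      Subalgebra.isSimpleOrder_of_finrank_prime _ _ (hKn ▸ hn)
    set a' : cent u := ⟨(ρ a : (Module.End (ZMod p) V)), hAK a ha⟩
    have htop : Algebra.adjoin (ZMod p) ({a'} : Set (cent u)) = ⊤ := by
      refine (eq_bot_or_eq_top _).resolve_left fun h0 => haS ?_
      have : a' ∈ (⊥ : Subalgebra (ZMod p) (cent u)) := h0 ▸ Algebra.self_mem_adjoin_singleton _ _
      obtain ⟨c, hc⟩ := Algebra.mem_bot.mp this
      exact ⟨c, by rw [← Algebra.algebraMap_eq_smul_one]; exact (congrArg Subtype.val hc).symm⟩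
    have key : ∀ e : (Module.End (ZMod p) V), (ρ a : (Module.End (ZMod p) V)) * e = e * (ρ a : (Module.End (ZMod p) V)) → e ∈ cent u := by
      intro e he
      rw [mem_cent]
      have hu' : (⟨(u : (Module.End (ZMod p) V)), hu.mem_self⟩ : cent u) ∈ Algebra.adjoin (ZMod p) ({a'} : Set (cent u)) :=
        htop ▸ Algebra.mem_top
      have hle : Algebra.adjoin (ZMod p) ({a'} : Set (cent u)) ≤
          (Subalgebra.centralizer (ZMod p) ({e} : Set (Module.End (ZMod p) V))).comap (cent u).val := by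
        refine Algebra.adjoin_le ?_
        rintro _ rfl
        show (ρ a : (Module.End (ZMod p) V)) ∈ Subalgebra.centralizer (ZMod p) ({e} : Set (Module.End (ZMod p) V))
        rw [Subalgebra.mem_centralizer_iff]
        rintro g rfl
        exact he.symm
      exact ((Subalgebra.mem_centralizer_iff (ZMod p)).mp (hle hu') e rfl).symm
    refine key _ ?_
    -- a = h a₀ h⁻¹ and a₀ commutes with u
    have ha0 : h⁻¹ * a * h ∈ A := by simpa using hAn.conj_mem a ha h⁻¹
    have hcu := mem_cent.mp (hAK _ ha0)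
    have hU : ρ (h⁻¹ * a * h) * u = u * ρ (h⁻¹ * a * h) := Units.ext (by simpa using hcu.symm)
    rw [← Units.val_mul, ← Units.val_mul]
    congr 1
    rw [map_mul, map_mul, map_inv] at hU
    calc ρ a * (ρ h * u * (ρ h)⁻¹) = ρ h * ((ρ h)⁻¹ * ρ a * ρ h * u) * (ρ h)⁻¹ := by group
      _ = ρ h * (u * ((ρ h)⁻¹ * ρ a * ρ h)) * (ρ h)⁻¹ := by rw [hU]
      _ = _ := by group
  -- otherwise there is a normal subgroup of class two over the scalars
  exfalso
  push Not at hbig
  haveI := hSn
  have hxS : x ∉ S := by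
    rintro ⟨c, hc⟩
    apply hu.finrank_cent.2 hn.one_lt
    have htop : cent u = ⊤ := eq_top_iff.mpr fun e _ => by
      rw [mem_cent, ← hx, hc, smul_mul_assoc, one_mul, mul_smul_comm, mul_one]
    -- then every endomorphism commutes with every other, impossible in dimension `> 1`
    exfalso
    obtain ⟨b⟩ : Nonempty (Module.Basis (Fin n) (ZMod p) V) := ⟨Module.finBasis (ZMod p) V⟩
    have h2 := hn.two_le
    set i : Fin n := ⟨0, by omega⟩
    set j : Fin n := ⟨1, by omega⟩
    have hij : i ≠ j := by simp [i, j]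
    let e1 : (Module.End (ZMod p) V) := b.constr (ZMod p) (fun k => if k = i then b j else 0)
    let e2 : (Module.End (ZMod p) V) := b.constr (ZMod p) (fun k => if k = j then b i else 0)
    have := LinearMap.congr_fun (hu.comm (a := e1) (b := e2) (htop ▸ Algebra.mem_top) (htop ▸ Algebra.mem_top)) (b i)
    simp [e1, e2, hij, hij.symm] at this
    exact (b.ne_zero i) this.symm
  haveI : Nontrivial (H ⧸ S) := ⟨⟨(x : H ⧸ S), 1, fun h => hxS ((QuotientGroup.eq_one_iff x).mp h)⟩⟩
  obtain ⟨Qb, hQbn, hQb1, hQbc, -⟩ : ∃ Qb : Subgroup (H ⧸ S), Qb.Normal ∧ Qb ≠ ⊥ ∧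
      (∀ a ∈ Qb, ∀ b ∈ Qb, a * b = b * a) ∧ True := by
    obtain ⟨k, hk⟩ := (Group.isSolvable_def (G := H ⧸ S)).mp inferInstance
    classical
    have hex : ∃ k, derivedSeries (H ⧸ S) k = ⊥ := ⟨k, hk⟩
    have h0 : Nat.find hex ≠ 0 := fun h => by
      have := Nat.find_spec hex
      rw [h, derivedSeries_zero] at this
      exact top_ne_bot this
    obtain ⟨m, hm⟩ := Nat.exists_eq_succ_of_ne_zero h0
    refine ⟨derivedSeries (H ⧸ S) m, inferInstance, Nat.find_min hex (by omega), fun a ha b hb => ?_, trivial⟩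
    have : ⁅a, b⁆ ∈ derivedSeries (H ⧸ S) (m + 1) := by
      rw [derivedSeries_succ]; exact Subgroup.commutator_mem_commutator ha hb
    rw [← Nat.succ_eq_add_one, ← hm, Nat.find_spec hex, Subgroup.mem_bot] at this
    exact commutatorElement_eq_one_iff_mul_comm.mp this
  set Q := Qb.comap (QuotientGroup.mk' S) with hQ
  haveI hQn : Q.Normal := hQbn.comap _
  have hQS : ¬ Q ≤ S := by
    intro hle
    apply hQb1
    rw [← Subgroup.map_comap_eq_self_of_surjective (QuotientGroup.mk'_surjective S) Qb, eq_bot_iff]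
    rintro _ ⟨y, hy, rfl⟩
    exact Subgroup.mem_bot.mpr ((QuotientGroup.eq_one_iff y).mpr (hle hy))
  have hcS : ∀ a ∈ Q, ∀ b ∈ Q, ⁅a, b⁆ ∈ S := fun a ha b hb => by
    rw [← QuotientGroup.eq_one_iff]
    show QuotientGroup.mk' S ⁅a, b⁆ = 1
    rw [map_commutatorElement, commutatorElement_eq_one_iff_mul_comm]
    exact hQbc _ ha _ hb
  -- scalar values
  have hdet : ∀ (s : H) (c : ZMod p), (ρ s : (Module.End (ZMod p) V)) = c • 1 → LinearMap.det (ρ s : (Module.End (ZMod p) V)) = c ^ n := fun s c hc => by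
    rw [hc, LinearMap.det_smul, map_one, mul_one]
  have hsn : ∀ a ∈ Q, ∀ b ∈ Q, ⁅a, b⁆ ^ n = 1 := by
    intro a ha b hb
    obtain ⟨c, hc⟩ := hcS a ha b hb
    refine hinj (Units.ext ?_)
    rw [map_pow, Units.val_pow_eq_pow_val, hc, smul_pow, one_pow, map_one, Units.val_one]
    have h1 : LinearMap.det (ρ ⁅a, b⁆ : (Module.End (ZMod p) V)) = 1 := by
      let d : (Module.End (ZMod p) V)ˣ →* (ZMod p)ˣ := Units.map (LinearMap.det : (Module.End (ZMod p) V) →* ZMod p)
      have h2 : d (ρ ⁅a, b⁆) = 1 := by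
        rw [map_commutatorElement, map_commutatorElement, commutatorElement_def, mul_comm (d (ρ a))]
        group
      exact congrArg Units.val h2
    rw [hdet _ c hc] at h1
    rw [h1, one_smul]
  have hZ : ∀ a ∈ Q, (∀ b ∈ Q, a * b = b * a) → a ∈ S := by
    intro a ha hcomm
    let Z : Subgroup H := Q ⊓ Subgroup.centralizer (Q : Set H)
    refine hbig Z inferInstance (fun c hc d hd => (Subgroup.mem_centralizer_iff.mp hd.2 c hc.1)) ⟨ha, ?_⟩
    exact Subgroup.mem_centralizer_iff.mpr fun b hb => (hcomm b hb).symm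
  have hpowS : ∀ a ∈ Q, a ^ n ∈ S := fun a ha => hZ _ (Q.pow_mem ha n) fun b hb => by
    rw [← commutatorElement_eq_one_iff_mul_comm,
      PGroups.commutatorElement_pow_left_of_central a b (hScen _ (hcS a ha b hb) a) n, hsn a ha b hb]
  -- a coset of S in Q is determined by its commutator scalars
  have hsc : ∀ a ∈ Q, ∀ b ∈ Q, ∃ c : ZMod p, (ρ ⁅a, b⁆ : (Module.End (ZMod p) V)) = c • 1 := fun a ha b hb => hcS a ha b hb
  choose! χ hχ using hsc
  have hconj : ∀ q ∈ Q, ∀ a ∈ Q, (ρ q : (Module.End (ZMod p) V)) * (ρ a : (Module.End (ZMod p) V)) * ((ρ q)⁻¹ : (Module.End (ZMod p) V)ˣ).val = χ q a • (ρ a : (Module.End (ZMod p) V)) := by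
    intro q hq a ha
    rw [← Units.val_mul, ← map_inv, ← Units.val_mul, ← map_mul, ← map_mul,
      show q * a * q⁻¹ = ⁅q, a⁆ * a by rw [commutatorElement_def]; group, map_mul, Units.val_mul,
      hχ q hq a ha, smul_mul_assoc, one_mul]
  let reps : Set H := Set.range fun c : Qb => ((c : H ⧸ S).out)
  have hrep : ∀ c : Qb, (c : H ⧸ S).out ∈ Q := fun c => by
    show QuotientGroup.mk' S (c : H ⧸ S).out ∈ Qb
    rw [QuotientGroup.mk'_apply, QuotientGroup.out_eq']; exact c.2
  haveI := Fintype.ofFinite Qb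
  have hli : LinearIndependent (ZMod p) fun c : Qb => (ρ (c : H ⧸ S).out : (Module.End (ZMod p) V)) := by
    rw [linearIndependent_iff']
    intro s
    induction s using Finset.induction_on with
    | empty => simp
    | insert c₀ s hc₀ ih =>
      intro g hg
      -- apply conjugation by each q and subtract
      have hker : ∀ q ∈ Q, ∀ c ∈ s, g c * (χ q (c : H ⧸ S).out - χ q (c₀ : H ⧸ S).out) = 0 := by
        intro q hq
        refine ih (fun c => g c * (χ q (c : H ⧸ S).out - χ q (c₀ : H ⧸ S).out)) ?_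
        have h1 := congrArg (fun e => (ρ q : (Module.End (ZMod p) V)) * e * ((ρ q)⁻¹ : (Module.End (ZMod p) V)ˣ).val) hg
        simp only [Finset.mul_sum, Finset.sum_mul, mul_smul_comm, smul_mul_assoc, mul_zero, zero_mul] at h1
        rw [Finset.sum_congr rfl fun c _ => by rw [hconj q hq _ (hrep c), smul_smul]] at h1
        have h2 := congrArg (fun e => χ q (c₀ : H ⧸ S).out • e) hg
        simp only [Finset.smul_sum, smul_zero, smul_smul] at h2
        rw [Finset.sum_insert hc₀] at h1 h2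
        calc _ = ∑ c ∈ s, ((g c * χ q (c : H ⧸ S).out) • (ρ (c : H ⧸ S).out : (Module.End (ZMod p) V)) -
              (χ q (c₀ : H ⧸ S).out * g c) • (ρ (c : H ⧸ S).out : (Module.End (ZMod p) V))) := by
              refine Finset.sum_congr rfl fun c _ => ?_
              rw [← sub_smul]; congr 1; ring
          _ = 0 := by
              rw [Finset.sum_sub_distrib, sub_eq_zero]
              rw [mul_comm (χ q _) (g c₀)] at h2
              exact add_left_cancel (h1.trans h2.symm)
      have hs0 : ∀ c ∈ s, g c = 0 := by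
        intro c hc
        by_contra hgc
        have hcc : c ≠ c₀ := fun h => hc₀ (h ▸ hc)
        apply hcc
        have hχeq : ∀ q ∈ Q, χ q (c : H ⧸ S).out = χ q (c₀ : H ⧸ S).out := fun q hq =>
          sub_eq_zero.mp ((mul_eq_zero.mp (hker q hq c hc)).resolve_left hgc)
        have hmem : ((c₀ : H ⧸ S).out)⁻¹ * (c : H ⧸ S).out ∈ S := by
          refine hZ _ (Q.mul_mem (Q.inv_mem (hrep c₀)) (hrep c)) fun q hq => ?_
          have hsame : ⁅q, (c : H ⧸ S).out⁆ = ⁅q, (c₀ : H ⧸ S).out⁆ := hinj (Units.ext (by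
            rw [hχ q hq _ (hrep c), hχ q hq _ (hrep c₀), hχeq q hq]))
          have hcen := hScen _ (hcS q hq _ (hrep c₀))
          have e1 : q * (c : H ⧸ S).out * q⁻¹ = ⁅q, (c₀ : H ⧸ S).out⁆ * (c : H ⧸ S).out := by
            rw [← hsame, commutatorElement_def]; group
          have e2 : q * ((c₀ : H ⧸ S).out)⁻¹ * q⁻¹ = ((c₀ : H ⧸ S).out)⁻¹ * ⁅q, (c₀ : H ⧸ S).out⁆⁻¹ := by
            rw [commutatorElement_def]; group
          have e3 : q * (((c₀ : H ⧸ S).out)⁻¹ * (c : H ⧸ S).out) * q⁻¹ =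
              ((c₀ : H ⧸ S).out)⁻¹ * (c : H ⧸ S).out := by
            calc _ = (q * ((c₀ : H ⧸ S).out)⁻¹ * q⁻¹) * (q * (c : H ⧸ S).out * q⁻¹) := by group
              _ = _ := by rw [e1, e2]; group
          exact (mul_inv_eq_iff_eq_mul.mp e3).symm
        have := QuotientGroup.eq.mpr hmem
        rw [QuotientGroup.out_eq', QuotientGroup.out_eq'] at this
        exact (Subtype.ext this).symm
      intro c hc
      rcases Finset.mem_insert.mp hc with rfl | hc
      · rw [Finset.sum_insert hc₀, Finset.sum_eq_zero (fun c' hc' => by rw [hs0 c' hc', zero_smul]),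
          add_zero] at hg
        exact (smul_eq_zero.mp hg).resolve_right (by haveI : Nontrivial V := Module.finrank_pos_iff.mp hu.pos; exact Units.ne_zero _)
      · exact hs0 c hc
  haveI : FiniteDimensional (ZMod p) V := Module.Finite.of_finite
  have hQle : Nat.card Qb ≤ n ^ 2 := by
    rw [Nat.card_eq_fintype_card]
    refine hli.fintype_card_le_finrank.trans (le_of_eq ?_)
    rw [Module.finrank_linearMap, pow_two]
  -- x acts trivially on Q/S
  haveI := hQbn
  have hQp : IsPGroup n Qb := by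
    rintro ⟨c, hc⟩
    obtain ⟨a, rfl⟩ := QuotientGroup.mk_surjective c
    refine ⟨1, Subtype.ext ?_⟩
    show ((a : H ⧸ S)) ^ n ^ 1 = 1
    rw [pow_one, ← QuotientGroup.mk_pow, QuotientGroup.eq_one_iff]
    exact hpowS a hc
  obtain ⟨e, he⟩ := IsPGroup.iff_card.mp hQp
  let act : Subgroup (ConjAct (H ⧸ S)) := Subgroup.zpowers (ConjAct.toConjAct (x : H ⧸ S))
  have hactp : IsPGroup r act := by
    refine IsPGroup.of_card_dvd_pow (n := 1) ?_
    rw [pow_one, Nat.card_zpowers]
    refine (orderOf_map_dvd (ConjAct.toConjAct : H ⧸ S ≃* ConjAct (H ⧸ S)).toMonoidHom (x : H ⧸ S)).trans ?_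
    refine orderOf_dvd_of_pow_eq_one ?_
    rw [← QuotientGroup.mk_pow, show x ^ r = 1 from hinj (by rw [map_pow, hx, hu.pow, map_one]),
      QuotientGroup.mk_one]
  have hmod := hactp.card_modEq_card_fixedPoints Qb
  set Fx : Subgroup Qb := (Subgroup.centralizer ({(x : H ⧸ S)} : Set (H ⧸ S))).subgroupOf Qb with hFx
  have hfix : MulAction.fixedPoints act Qb = (Fx : Set Qb) := by
    ext c
    rw [MulAction.mem_fixedPoints, SetLike.mem_coe, hFx, Subgroup.mem_subgroupOf,
      Subgroup.mem_centralizer_singleton_iff]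
    constructor
    · intro hc
      have h1 := congrArg Subtype.val (hc ⟨_, Subgroup.mem_zpowers _⟩)
      have h2 : (x : H ⧸ S) * c * (x : H ⧸ S)⁻¹ = c := h1
      exact (mul_inv_eq_iff_eq_mul.mp h2).symm
    · rintro hc ⟨g, i, rfl⟩
      apply Subtype.ext
      show (ConjAct.toConjAct (x : H ⧸ S) ^ i) • (c : H ⧸ S) = c
      rw [← map_zpow, ConjAct.toConjAct_smul,
        ((show Commute (x : H ⧸ S) c from hc.symm).zpow_left i).eq, mul_inv_cancel_right]
  rw [hfix] at hmod
  change Nat.card Qb ≡ Nat.card Fx [MOD r] at hmod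
  obtain ⟨f, hf, hf'⟩ := (Nat.dvd_prime_pow hn).mp (he ▸ Fx.card_subgroup_dvd_card)
  rw [he, hf'] at hmod
  have he2 : e ≤ 2 := by
    rw [he] at hQle
    exact (Nat.pow_le_pow_iff_right hn.one_lt).mp hQle
  obtain ⟨hr1, hrn⟩ := hu.modEq_one
  have hrbig : n + 1 < r := by
    rcases Nat.lt_or_ge (n + 1) r with h | h
    · exact h
    · have : r = n + 1 := by omega
      have hr2 : r = 2 := (Nat.Prime.even_iff hu.prime).mp (this ▸ hodd.add_one)
      have := hn.two_le; omega
  have hef : f = e := by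
    by_contra hne
    have hlt : f < e := lt_of_le_of_ne hf hne
    have h1 : r ∣ n ^ e - n ^ f := (Nat.modEq_iff_dvd' (Nat.pow_le_pow_right hn.pos hf)).mp hmod.symm
    obtain ⟨d, rfl⟩ := Nat.exists_eq_add_of_le hlt.le
    rw [pow_add, show n ^ f * n ^ d - n ^ f = n ^ f * (n ^ d - 1) by rw [Nat.mul_sub, mul_one]] at h1
    rcases hu.prime.dvd_mul.mp h1 with h2 | h2
    · have := Nat.le_of_dvd hn.pos (hu.prime.dvd_of_dvd_pow h2); omega
    · have hd : d = 1 ∨ d = 2 := by omega
      rcases hd with rfl | rfl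
      · rw [pow_one] at h2
        have := Nat.le_of_dvd (Nat.sub_pos_of_lt hn.one_lt) h2
        omega
      · rw [show n ^ 2 - 1 = (n + 1) * (n - 1) by rw [← Nat.sq_sub_sq, one_pow]] at h2
        rcases hu.prime.dvd_mul.mp h2 with h3 | h3
        · have := Nat.le_of_dvd (by omega) h3; omega
        · have := Nat.le_of_dvd (Nat.sub_pos_of_lt hn.one_lt) h3; omega
  have hFtop : Fx = ⊤ := Subgroup.eq_top_of_card_eq _ (by rw [hf', he, hef])
  apply hQS
  intro a ha
  refine hZ a ha fun b hb => hinj ?_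
  rw [map_mul, map_mul]
  apply Units.ext
  rw [Units.val_mul, Units.val_mul]
  have hK : ∀ a ∈ Q, (ρ a : (Module.End (ZMod p) V)) ∈ cent u := by
    intro a ha
    have hmem : (⟨(a : H ⧸ S), ha⟩ : Qb) ∈ Fx := hFtop ▸ Subgroup.mem_top _
    rw [hFx, Subgroup.mem_subgroupOf, Subgroup.mem_centralizer_singleton_iff] at hmem
    have hs : x * a * x⁻¹ * a⁻¹ ∈ S := by
      rw [← QuotientGroup.eq_one_iff]
      simp only [QuotientGroup.mk_mul, QuotientGroup.mk_inv]
      rw [← hmem]; group
    obtain ⟨c, hc⟩ := hs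
    set z := x * a * x⁻¹ * a⁻¹ with hz
    have hzc : ∀ j : ℕ, x ^ j * a * (x ^ j)⁻¹ = z ^ j * a := by
      intro j
      induction j with
      | zero => simp
      | succ j ih =>
        have hzx : x * z ^ j = z ^ j * x :=
          ((show Commute x z from hScen z ⟨c, hc⟩ x).pow_right j).eq
        calc x ^ (j + 1) * a * (x ^ (j + 1))⁻¹ = x * (x ^ j * a * (x ^ j)⁻¹) * x⁻¹ := by
              rw [pow_succ' x]; group
          _ = x * z ^ j * (a * x⁻¹) := by rw [ih]; group
          _ = z ^ j * (x * a * x⁻¹) := by rw [hzx]; group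
          _ = _ := by rw [pow_succ, hz]; group
    have h1 := hzc r
    rw [show x ^ r = 1 from hinj (by rw [map_pow, hx, hu.pow, map_one])] at h1
    have hzr : z ^ r = 1 := by simpa using h1.symm
    have hzn : z ^ n = 1 := by
      refine hinj (Units.ext ?_)
      rw [map_pow, Units.val_pow_eq_pow_val, hc, smul_pow, one_pow, map_one, Units.val_one]
      have h2 : LinearMap.det (ρ z : (Module.End (ZMod p) V)) = 1 := by
        let d : (Module.End (ZMod p) V)ˣ →* (ZMod p)ˣ := Units.map (LinearMap.det : (Module.End (ZMod p) V) →* ZMod p)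
        have h3 : d (ρ z) = 1 := by
          rw [hz, map_mul, map_mul, map_mul, map_inv, map_inv, map_mul, map_mul, map_mul, map_inv, map_inv,
            mul_comm (d (ρ x))]
          group
        exact congrArg Units.val h3
      rw [hdet _ c hc] at h2
      rw [h2, one_smul]
    have hcop : n.Coprime r := (Nat.coprime_primes hn hu.prime).mpr (by omega)
    have hz1 : z = 1 := orderOf_eq_one_iff.mp (Nat.eq_one_of_dvd_coprimes hcop
      (orderOf_dvd_of_pow_eq_one hzn) (orderOf_dvd_of_pow_eq_one hzr))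
    have hxa : x * a = a * x := by
      rw [hz, mul_inv_eq_one, mul_inv_eq_iff_eq_mul] at hz1
      exact hz1
    rw [mem_cent, ← hx, ← Units.val_mul, ← Units.val_mul, ← map_mul, ← map_mul, hxa]
  exact hu.comm (hK a ha) (hK b hb)

end Cfsg.Agent.Lib.Elem70.Semilinear
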